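/-
Noetherian approximation of finitely presented affine morphisms, and descent of isomorphisms
between base changes of finitely presented algebras to finitely generated subalgebras.
-/
import Mathlib

universe u

open CategoryTheory CategoryTheory.Limits AlgebraicGeometry TensorProduct

namespace Groth.Agent.FlatMorLib.Approx

section Algebra

variable {R A C D : Type u} [CommRing R] [CommRing A] [Algebra R A]
  [CommRing C] [Algebra R C] [CommRing D] [Algebra R D]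

/-- `A' ⊗ D → A ⊗ D` for a subalgebra `A'` of `A`. -/
noncomputable abbrev valT (D : Type u) [CommRing D] [Algebra R D] (A' : Subalgebra R A) :
    A' ⊗[R] D →ₐ[R] A ⊗[R] D :=
  Algebra.TensorProduct.map A'.val (AlgHom.id R D)

/-- `A' ⊗ D → B' ⊗ D` for subalgebras `A' ≤ B'`. -/
noncomputable abbrev incT (D : Type u) [CommRing D] [Algebra R D] {A' B' : Subalgebra R A}
    (h : A' ≤ B') : A' ⊗[R] D →ₐ[R] B' ⊗[R] D :=
  Algebra.TensorProduct.map (Subalgebra.inclusion h) (AlgHom.id R D)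

lemma valT_comp_incT {A' B' : Subalgebra R A} (h : A' ≤ B') :
    (valT D B').comp (incT D h) = valT D A' :=
  Algebra.TensorProduct.ext' fun _ _ => rfl

lemma valT_incT {A' B' : Subalgebra R A} (h : A' ≤ B') (x : A' ⊗[R] D) :
    valT D B' (incT D h x) = valT D A' x :=
  DFunLike.congr_fun (valT_comp_incT (D := D) h) x

lemma incT_incT {A' B' C' : Subalgebra R A} (h : A' ≤ B') (h' : B' ≤ C') (x : A' ⊗[R] D) :
    incT D h' (incT D h x) = incT D (h.trans h') x :=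
  have e : (incT D h').comp (incT D h) = incT D (h.trans h') :=
    Algebra.TensorProduct.ext' fun _ _ => rfl
  DFunLike.congr_fun e x

lemma range_mono {A' B' : Subalgebra R A} (h : A' ≤ B') :
    (valT D A').range ≤ (valT D B').range := by
  rw [← valT_comp_incT (D := D) h]
  exact AlgHom.range_comp_le_range _ _

lemma exists_fg_finset_subset (s : Finset (A ⊗[R] D)) :
    ∃ A' : Subalgebra R A, A'.FG ∧ ∀ x ∈ s, x ∈ (valT D A').range := by
  classical
  induction s using Finset.induction with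
  | empty => exact ⟨⊥, Subalgebra.fg_bot, by simp⟩
  | insert a s has ih =>
    obtain ⟨A', hA', h⟩ := ih
    obtain ⟨A'', hA'', y, hy⟩ := TensorProduct.Algebra.exists_of_fg (R := R) (S := A) (N := D) a
    refine ⟨A' ⊔ A'', hA'.sup hA'', fun x hx => ?_⟩
    rcases Finset.mem_insert.1 hx with rfl | hx
    · exact range_mono le_sup_right ⟨y, hy⟩
    · exact range_mono le_sup_left (h x hx)

lemma exists_fg_eq {A' : Subalgebra R A} (hA' : A'.FG) {s : Set (A' ⊗[R] D × A' ⊗[R] D)}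
    (hs : s.Finite) (h : ∀ p ∈ s, valT D A' p.1 = valT D A' p.2) :
    ∃ (B' : Subalgebra R A) (hAB : A' ≤ B'), B'.FG ∧ ∀ p ∈ s, incT D hAB p.1 = incT D hAB p.2 := by
  induction s, hs using Set.Finite.induction_on with
  | empty => exact ⟨A', le_rfl, hA', by simp⟩
  | @insert a s _ _ ih =>
    obtain ⟨B', hAB, hB', hB⟩ := ih fun p hp => h p (Set.mem_insert_of_mem _ hp)
    obtain ⟨B'', hle, hB'', he⟩ := TensorProduct.Algebra.eq_of_fg_of_subtype_eq hB'
      (t := incT D hAB a.1) (t' := incT D hAB a.2) (by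
        have := h a (Set.mem_insert _ _)
        rw [← valT_incT hAB, ← valT_incT hAB] at this
        exact this)
    refine ⟨B'', hAB.trans hle, hB'', fun p hp => ?_⟩
    rw [← incT_incT hAB hle, ← incT_incT hAB hle]
    rcases Set.mem_insert_iff.1 hp with rfl | hp
    · exact he
    · rw [hB p hp]

/-- A homomorphism from a finitely presented algebra into `A ⊗ D` comes from `A' ⊗ D` for a finitely
generated subalgebra `A'`. -/
theorem exists_fg_lift [Algebra.FinitePresentation R C] (φ : C →ₐ[R] A ⊗[R] D) :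
    ∃ (A' : Subalgebra R A), A'.FG ∧ ∃ φ' : C →ₐ[R] A' ⊗[R] D, (valT D A').comp φ' = φ := by
  classical
  obtain ⟨n, π, hπ, t, ht⟩ := Algebra.FinitePresentation.out (R := R) (A := C)
  obtain ⟨A', hA', hmem⟩ := exists_fg_finset_subset
    (Finset.univ.image fun i : Fin n => φ (π (MvPolynomial.X i)))
  have : ∀ i, ∃ y, valT D A' y = φ (π (MvPolynomial.X i)) := fun i =>
    hmem _ (Finset.mem_image.2 ⟨i, Finset.mem_univ _, rfl⟩)
  choose y hy using this
  let ψ : MvPolynomial (Fin n) R →ₐ[R] A' ⊗[R] D := MvPolynomial.aeval y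
  have hψ : (valT D A').comp ψ = φ.comp π := MvPolynomial.algHom_ext fun i => by
    simp only [AlgHom.comp_apply, ψ, MvPolynomial.aeval_X]
    exact hy i
  obtain ⟨B', hAB, hB', hB⟩ := exists_fg_eq hA'
    (s := (fun r => (ψ r, (0 : A' ⊗[R] D))) '' (t : Set (MvPolynomial (Fin n) R)))
    (t.finite_toSet.image _) (by
      rintro _ ⟨r, hr, rfl⟩
      have : π r = 0 := by
        have hm : r ∈ RingHom.ker π.toRingHom := ht ▸ Ideal.subset_span hr
        exact hm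
      calc valT D A' (ψ r) = φ (π r) := DFunLike.congr_fun hψ r
        _ = valT D A' 0 := by rw [this, map_zero, map_zero])
  have hker : RingHom.ker π ≤ RingHom.ker ((incT D hAB).comp ψ) := by
    intro x hx
    have hx' : x ∈ Ideal.span (t : Set (MvPolynomial (Fin n) R)) := by rw [ht]; exact hx
    refine (Ideal.span_le.2 ?_) hx'
    intro r hr
    have := hB _ ⟨r, hr, rfl⟩
    simpa using this
  let g := RingHom.liftOfSurjective π.toRingHom hπ ⟨((incT D hAB).comp ψ).toRingHom, hker⟩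
  have hg : ∀ x, g (π x) = incT D hAB (ψ x) := fun x =>
    RingHom.liftOfSurjective_comp_apply π.toRingHom hπ ⟨((incT D hAB).comp ψ).toRingHom, hker⟩ x
  refine ⟨B', hB', { g with commutes' := fun r => ?_ }, ?_⟩
  · have := hg (algebraMap R _ r)
    rw [AlgHom.commutes, AlgHom.commutes, AlgHom.commutes] at this
    exact this
  · refine AlgHom.ext fun c => ?_
    obtain ⟨x, rfl⟩ := hπ c
    show valT D B' (g (π x)) = φ (π x)
    rw [hg, valT_incT]
    exact DFunLike.congr_fun hψ x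

/-- Two homomorphisms from a finitely generated algebra into `A' ⊗ D` agreeing in `A ⊗ D` agree in
`B' ⊗ D` for a finitely generated `B' ≥ A'`. -/
theorem exists_fg_hom_eq [Algebra.FiniteType R C] {A' : Subalgebra R A} (hA' : A'.FG)
    (φ₁ φ₂ : C →ₐ[R] A' ⊗[R] D) (h : (valT D A').comp φ₁ = (valT D A').comp φ₂) :
    ∃ (B' : Subalgebra R A) (hAB : A' ≤ B'), B'.FG ∧
      (incT D hAB).comp φ₁ = (incT D hAB).comp φ₂ := by
  obtain ⟨s, hs⟩ := Algebra.FiniteType.out (R := R) (A := C)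
  obtain ⟨B', hAB, hB', hB⟩ := exists_fg_eq hA'
    (s := (fun c => (φ₁ c, φ₂ c)) '' (s : Set C)) (s.finite_toSet.image _) (by
      rintro _ ⟨c, hc, rfl⟩
      exact DFunLike.congr_fun h c)
  exact ⟨B', hAB, hB', AlgHom.ext_of_adjoin_eq_top hs fun c hc => hB _ ⟨c, hc, rfl⟩⟩

/-- Linear extension `A' ⊗ C → A' ⊗ D`. -/
noncomputable abbrev ext' {A' : Subalgebra R A} (φ : C →ₐ[R] A' ⊗[R] D) :
    A' ⊗[R] C →ₐ[A'] A' ⊗[R] D :=
  Algebra.TensorProduct.lift (Algebra.ofId _ _) φ fun _ _ => Commute.all _ _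

lemma valT_ext' {A' : Subalgebra R A} (φ : C →ₐ[R] A' ⊗[R] D) (ψ : A ⊗[R] C →ₐ[A] A ⊗[R] D)
    (h : (valT D A').comp φ = (ψ.restrictScalars R).comp Algebra.TensorProduct.includeRight)
    (x : A' ⊗[R] C) : valT D A' (ext' φ x) = ψ (valT C A' x) := by
  induction x using TensorProduct.induction_on with
  | zero => simp only [map_zero]
  | add x y hx hy => simp only [map_add, hx, hy]
  | tmul a c =>
    have h1 : valT D A' (φ c) = ψ (1 ⊗ₜ[R] c) := DFunLike.congr_fun h c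
    have h2 : (valT C A' (a ⊗ₜ[R] c)) = (a : A) • ((1 : A) ⊗ₜ[R] c) := by
      simp [valT, TensorProduct.smul_tmul']
    rw [h2, map_smul, ← h1]
    simp [ext', valT, Algebra.smul_def, Algebra.TensorProduct.algebraMap_apply]

lemma ext'_incT {A' B' : Subalgebra R A} (h : A' ≤ B') (φ : C →ₐ[R] A' ⊗[R] D)
    (x : A' ⊗[R] C) : ext' ((incT D h).comp φ) (incT C h x) = incT D h (ext' φ x) := by
  induction x using TensorProduct.induction_on with
  | zero => simp only [map_zero]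
  | add x y hx hy => simp only [map_add, hx, hy]
  | tmul a c =>
    simp [ext', incT, Algebra.TensorProduct.algebraMap_apply]

/-- An isomorphism between base changes to `A` of finitely presented algebras descends to a
finitely generated subalgebra. -/
theorem exists_fg_iso [Algebra.FinitePresentation R C] [Algebra.FinitePresentation R D]
    (ψ : A ⊗[R] C ≃ₐ[A] A ⊗[R] D) :
    ∃ (A' : Subalgebra R A), A'.FG ∧ ∃ e : A' ⊗[R] C ≃ₐ[A'] A' ⊗[R] D,
      ∀ x, valT D A' (e x) = ψ (valT C A' x) := by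
  obtain ⟨A₁, hA₁, φ, hφ⟩ := exists_fg_lift
    ((ψ.toAlgHom.restrictScalars R).comp Algebra.TensorProduct.includeRight)
  obtain ⟨A₂, hA₂, χ, hχ⟩ := exists_fg_lift
    ((ψ.symm.toAlgHom.restrictScalars R).comp Algebra.TensorProduct.includeRight)
  let φ' : C →ₐ[R] ↥(A₁ ⊔ A₂) ⊗[R] D := (incT D le_sup_left).comp φ
  let χ' : D →ₐ[R] ↥(A₁ ⊔ A₂) ⊗[R] C := (incT C le_sup_right).comp χ
  have hφ' : (valT D (A₁ ⊔ A₂)).comp φ' =
      (ψ.toAlgHom.restrictScalars R).comp Algebra.TensorProduct.includeRight := by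
    rw [← AlgHom.comp_assoc, valT_comp_incT, hφ]
  have hχ' : (valT C (A₁ ⊔ A₂)).comp χ' =
      (ψ.symm.toAlgHom.restrictScalars R).comp Algebra.TensorProduct.includeRight := by
    rw [← AlgHom.comp_assoc, valT_comp_incT, hχ]
  have hA : (A₁ ⊔ A₂).FG := hA₁.sup hA₂
  obtain ⟨B₁, h₁, hB₁, he₁⟩ := exists_fg_hom_eq hA
    (((ext' χ').restrictScalars R).comp φ') Algebra.TensorProduct.includeRight (AlgHom.ext fun c => by
      show valT C (A₁ ⊔ A₂) (ext' χ' (φ' c)) = valT C (A₁ ⊔ A₂) (1 ⊗ₜ c)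
      rw [valT_ext' χ' ψ.symm.toAlgHom hχ' (φ' c)]
      have : valT D (A₁ ⊔ A₂) (φ' c) = ψ (1 ⊗ₜ[R] c) := DFunLike.congr_fun hφ' c
      rw [this]
      simp [valT])
  obtain ⟨B₂, h₂, hB₂, he₂⟩ := exists_fg_hom_eq hA
    (((ext' φ').restrictScalars R).comp χ') Algebra.TensorProduct.includeRight (AlgHom.ext fun c => by
      show valT D (A₁ ⊔ A₂) (ext' φ' (χ' c)) = valT D (A₁ ⊔ A₂) (1 ⊗ₜ c)
      rw [valT_ext' φ' ψ.toAlgHom hφ' (χ' c)]
      have : valT C (A₁ ⊔ A₂) (χ' c) = ψ.symm (1 ⊗ₜ[R] c) := DFunLike.congr_fun hχ' c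
      rw [this]
      simp [valT])
  let hle : A₁ ⊔ A₂ ≤ B₁ ⊔ B₂ := h₁.trans le_sup_left
  let Φ := ext' ((incT D hle).comp φ')
  let Χ := ext' ((incT C hle).comp χ')
  have hΧΦ : Χ.comp Φ = AlgHom.id _ _ := by
    refine Algebra.TensorProduct.ext (Subsingleton.elim _ _) (AlgHom.ext fun c => ?_)
    have e := DFunLike.congr_fun he₁ c
    have e' := congrArg (incT C (le_sup_left : B₁ ≤ B₁ ⊔ B₂)) e
    simp only [AlgHom.comp_apply, incT_incT] at e'
    show Χ (Φ (1 ⊗ₜ c)) = 1 ⊗ₜ c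
    have : Φ (1 ⊗ₜ c) = incT D hle (φ' c) := by simp [Φ, ext', ← Algebra.TensorProduct.one_def]
    rw [this, ext'_incT]
    refine e'.trans ?_
    simp [incT]
  have hΦΧ : Φ.comp Χ = AlgHom.id _ _ := by
    refine Algebra.TensorProduct.ext (Subsingleton.elim _ _) (AlgHom.ext fun c => ?_)
    have e := DFunLike.congr_fun he₂ c
    have e' := congrArg (incT D (le_sup_right : B₂ ≤ B₁ ⊔ B₂)) e
    simp only [AlgHom.comp_apply, incT_incT] at e'
    show Φ (Χ (1 ⊗ₜ c)) = 1 ⊗ₜ c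
    have : Χ (1 ⊗ₜ c) = incT C hle (χ' c) := by simp [Χ, ext', ← Algebra.TensorProduct.one_def]
    rw [this, ext'_incT]
    refine e'.trans ?_
    simp [incT]
  refine ⟨B₁ ⊔ B₂, hB₁.sup hB₂, AlgEquiv.ofAlgHom Φ Χ hΦΧ hΧΦ, fun x => ?_⟩
  exact valT_ext' _ ψ.toAlgHom (by
    rw [← AlgHom.comp_assoc, valT_comp_incT, hφ']) x

end Algebra

section Scheme

open CommRingCat

/-- Affine morphisms of finite presentation come from a finitely generated base. -/
theorem exists_noetherian_model {X S : Scheme.{u}} (f : X ⟶ S) [IsAffine X] [IsAffine S]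
    [LocallyOfFinitePresentation f] :
    ∃ (X₀ S₀ : Scheme.{u}) (f₀ : X₀ ⟶ S₀) (g : S ⟶ S₀) (g' : X ⟶ X₀), IsAffine X₀ ∧ IsAffine S₀ ∧
      IsPullback g' f f₀ g ∧ Algebra.FiniteType ℤ Γ(S₀, ⊤) ∧ LocallyOfFiniteType f₀ := by
  let _ := f.appTop.hom.toAlgebra
  have : Algebra.FinitePresentation Γ(S, ⊤) Γ(X, ⊤) := f.finitePresentation_appTop
  let P := Algebra.Presentation.ofFinitePresentation Γ(S, ⊤) Γ(X, ⊤)
  let A₀ := P.Core
  let B₀ := P.ModelOfHasCoeffs A₀
  let e : Γ(S, ⊤) ⊗[A₀] B₀ ≃ₐ[Γ(S, ⊤)] Γ(X, ⊤) := P.tensorModelOfHasCoeffsEquiv A₀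
  have hpo : IsPushout (ofHom (algebraMap A₀ Γ(S, ⊤))) (ofHom (algebraMap A₀ B₀)) f.appTop
      (ofHom ((e.toAlgHom.restrictScalars A₀).comp
        Algebra.TensorProduct.includeRight).toRingHom) := by
    refine (isPushout_tensorProduct A₀ Γ(S, ⊤) B₀).of_iso (Iso.refl _) (Iso.refl _) (Iso.refl _)
      e.toRingEquiv.toCommRingCatIso (by simp) (by simp) ?_ ?_
    · exact CommRingCat.hom_ext (RingHom.ext fun x => e.commutes x)
    · exact CommRingCat.hom_ext (RingHom.ext fun x => rfl)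
  have hpb := (isPullback_SpecMap_of_isPushout _ _ _ _ hpo).flip
  refine ⟨Spec (.of B₀), Spec (.of A₀), Spec.map (ofHom (algebraMap A₀ B₀)),
    S.isoSpec.hom ≫ Spec.map (ofHom (algebraMap A₀ Γ(S, ⊤))),
    X.isoSpec.hom ≫ Spec.map (ofHom ((e.toAlgHom.restrictScalars A₀).comp
        Algebra.TensorProduct.includeRight).toRingHom),
    inferInstance, inferInstance, ?_, ?_, ?_⟩
  · exact (IsPullback.of_horiz_isIso ⟨(Scheme.isoSpec_hom_naturality f)⟩).paste_horiz hpb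
  · have : Algebra.FiniteType ℤ A₀ := inferInstance
    exact this.equiv (Scheme.ΓSpecIso (.of A₀)).symm.commRingCatIsoToRingEquiv.toIntAlgEquiv
  · rw [HasRingHomProperty.Spec_iff (P := @LocallyOfFiniteType)]
    exact RingHom.finiteType_algebraMap.mpr inferInstance

lemma spec_pullback_of_isPullback {X S X₁ S₁ : Scheme.{u}} {f : X ⟶ S} [IsAffine X] [IsAffine S]
    {f₁ : X₁ ⟶ S₁} [IsAffine X₁] [IsAffine S₁] {g₁ : S ⟶ S₁} {g₁' : X ⟶ X₁}
    (h : IsPullback g₁' f f₁ g₁) :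
    IsPushout g₁.appTop f₁.appTop f.appTop g₁'.appTop :=
  (isPushout_appTop_of_isPullback h.flip)

/-- Two pushout models over a noetherian base can be identified over a finitely generated one. -/
theorem exists_subalgebra_model {R A B C₁ C₂ : CommRingCat.{u}} (r : R ⟶ A) (c₁ : R ⟶ C₁)
    (c₂ : R ⟶ C₂) (a : A ⟶ B) (u₁ : C₁ ⟶ B) (u₂ : C₂ ⟶ B) (po₁ : IsPushout r c₁ a u₁)
    (po₂ : IsPushout r c₂ a u₂) (hR : Algebra.FiniteType ℤ R) (hc₁ : c₁.hom.FiniteType)
    (hc₂ : c₂.hom.FiniteType) :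
    ∃ (A₀ C₀ : CommRingCat.{u}) (r₀ : R ⟶ A₀) (ι : A₀ ⟶ A) (c₀ : A₀ ⟶ C₀) (v₁ : C₁ ⟶ C₀)
      (v₂ : C₂ ⟶ C₀) (u₀ : C₀ ⟶ B), Algebra.FiniteType ℤ A₀ ∧ IsPushout r₀ c₁ c₀ v₁ ∧
      IsPushout r₀ c₂ c₀ v₂ ∧ IsPushout ι c₀ a u₀ := by
  have : IsNoetherianRing R := Algebra.FiniteType.isNoetherianRing ℤ R
  let _ := r.hom.toAlgebra
  let _ := c₁.hom.toAlgebra
  let _ := c₂.hom.toAlgebra
  have : Algebra.FinitePresentation R C₁ := Algebra.FinitePresentation.of_finiteType.mp hc₁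
  have : Algebra.FinitePresentation R C₂ := Algebra.FinitePresentation.of_finiteType.mp hc₂
  let a₁ := (isPushout_tensorProduct R A C₁).isoIsPushout _ _ po₁
  let a₂ := (isPushout_tensorProduct R A C₂).isoIsPushout _ _ po₂
  let ψ : A ⊗[R] C₁ ≃ₐ[A] A ⊗[R] C₂ :=
    AlgEquiv.ofRingEquiv (f := (a₁ ≪≫ a₂.symm).commRingCatIsoToRingEquiv) fun x => by
      have h1 := ((isPushout_tensorProduct R A C₁).inl_isoIsPushout_hom _ _ po₁)
      have h2 := ((isPushout_tensorProduct R A C₂).inl_isoIsPushout_inv _ _ po₂)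
      show (a₁.hom ≫ a₂.inv).hom (x ⊗ₜ 1) = x ⊗ₜ 1
      have := congr(($h1 ≫ a₂.inv).hom x)
      simp only [CommRingCat.hom_comp, RingHom.comp_apply] at this
      refine this.trans ?_
      exact congr(($h2).hom x)
  obtain ⟨A₀, hA₀, e, he⟩ := exists_fg_iso ψ
  have : Algebra.FiniteType R A₀ := A₀.fg_iff_finiteType.mp hA₀
  have hfin : Algebra.FiniteType ℤ A₀ := hR.trans this
  have q₁ := isPushout_tensorProduct R A₀ C₁
  have q₂ : IsPushout (ofHom (algebraMap R A₀)) c₂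
      (ofHom (Algebra.TensorProduct.includeLeftRingHom : A₀ →+* A₀ ⊗[R] C₁))
      (ofHom ((e.symm.toAlgHom.restrictScalars R).comp
        Algebra.TensorProduct.includeRight).toRingHom) :=
    (isPushout_tensorProduct R A₀ C₂).of_iso (Iso.refl _) (Iso.refl _) (Iso.refl _)
      e.symm.toRingEquiv.toCommRingCatIso (by simp) (by simp; rfl)
      (CommRingCat.hom_ext (RingHom.ext fun x => e.symm.commutes x))
      (CommRingCat.hom_ext (RingHom.ext fun x => rfl))
  refine ⟨.of A₀, .of (A₀ ⊗[R] C₁), ofHom (algebraMap R A₀), ofHom A₀.val.toRingHom,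
    ofHom Algebra.TensorProduct.includeLeftRingHom, _, _,
    ofHom (valT C₁ A₀).toRingHom ≫ a₁.hom, hfin, q₁, q₂, ?_⟩
  have h1 := (isPushout_tensorProduct R A C₁).inl_isoIsPushout_hom _ _ po₁
  have h2 := (isPushout_tensorProduct R A C₁).inr_isoIsPushout_hom _ _ po₁
  refine IsPushout.of_left (h₁₁ := ofHom (algebraMap R A₀)) (v₁₁ := c₁)
    (h₂₁ := ofHom (Algebra.TensorProduct.includeRight (R := R) (A := A₀) (B := C₁)).toRingHom)
    ?_ ?_ q₁
  · have hι : ofHom (algebraMap R A₀) ≫ ofHom A₀.val.toRingHom = r :=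
      CommRingCat.hom_ext (RingHom.ext fun x => rfl)
    have : ofHom (Algebra.TensorProduct.includeRight (R := R) (A := A₀) (B := C₁)).toRingHom ≫
        ofHom (valT C₁ A₀).toRingHom ≫ a₁.hom = u₁ :=
      CommRingCat.hom_ext (RingHom.ext fun x => congr(($h2).hom x))
    rw [hι, this]
    exact po₁
  · exact CommRingCat.hom_ext (RingHom.ext fun x => (congr(($h1).hom (x : A))).symm)

/-- Two models of the same affine morphism can be dominated by a common one. -/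
theorem exists_common_model (P Q : MorphismProperty Scheme.{u}) [P.IsStableUnderBaseChange]
    [Q.IsStableUnderBaseChange] {X S : Scheme.{u}} (f : X ⟶ S) [IsAffine X] [IsAffine S]
    {X₁ S₁ X₂ S₂ : Scheme.{u}} [IsAffine X₁] [IsAffine S₁] [IsAffine X₂] [IsAffine S₂]
    (f₁ : X₁ ⟶ S₁) (g₁ : S ⟶ S₁) (g₁' : X ⟶ X₁) (h₁ : IsPullback g₁' f f₁ g₁)
    (f₂ : X₂ ⟶ S₂) (g₂ : S ⟶ S₂) (g₂' : X ⟶ X₂) (h₂ : IsPullback g₂' f f₂ g₂)
    (hS₁ : Algebra.FiniteType ℤ Γ(S₁, ⊤)) (hS₂ : Algebra.FiniteType ℤ Γ(S₂, ⊤))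
    [LocallyOfFiniteType f₁] [LocallyOfFiniteType f₂] (hP : P f₁) (hQ : Q f₂) :
    ∃ (X₀ S₀ : Scheme.{u}) (f₀ : X₀ ⟶ S₀) (g : S ⟶ S₀) (g' : X ⟶ X₀), IsAffine X₀ ∧ IsAffine S₀ ∧
      IsPullback g' f f₀ g ∧ Algebra.FiniteType ℤ Γ(S₀, ⊤) ∧ LocallyOfFiniteType f₀ ∧
      P f₀ ∧ Q f₀ := by
  -- work over `R = Γ(S₁) ⊗_ℤ Γ(S₂)`
  let R : CommRingCat.{u} := .of (Γ(S₁, ⊤) ⊗[ℤ] Γ(S₂, ⊤))
  let i₁ : Γ(S₁, ⊤) ⟶ R := ofHom Algebra.TensorProduct.includeLeftRingHom
  let i₂ : Γ(S₂, ⊤) ⟶ R :=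
    ofHom (Algebra.TensorProduct.includeRight (R := ℤ) (A := Γ(S₁, ⊤))).toRingHom
  let r : R ⟶ Γ(S, ⊤) := ofHom (Algebra.TensorProduct.lift g₁.appTop.hom.toIntAlgHom
    g₂.appTop.hom.toIntAlgHom fun _ _ => Commute.all _ _).toRingHom
  have hr₁ : i₁ ≫ r = g₁.appTop := CommRingCat.hom_ext <| RingHom.ext fun x => by
    show Algebra.TensorProduct.lift _ _ (fun _ _ => Commute.all _ _) (x ⊗ₜ[ℤ] (1 : Γ(S₂, ⊤))) = _
    simp
  have hr₂ : i₂ ≫ r = g₂.appTop := CommRingCat.hom_ext <| RingHom.ext fun x => by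
    show Algebra.TensorProduct.lift _ _ (fun _ _ => Commute.all _ _) ((1 : Γ(S₁, ⊤)) ⊗ₜ[ℤ] x) = _
    simp
  -- base change both models to `R`
  let C₁ := pushout i₁ f₁.appTop
  let C₂ := pushout i₂ f₂.appTop
  let u₁ : C₁ ⟶ Γ(X, ⊤) := pushout.desc (r ≫ f.appTop) g₁'.appTop
    (by rw [reassoc_of% hr₁]; exact (spec_pullback_of_isPullback h₁).w)
  let u₂ : C₂ ⟶ Γ(X, ⊤) := pushout.desc (r ≫ f.appTop) g₂'.appTop
    (by rw [reassoc_of% hr₂]; exact (spec_pullback_of_isPullback h₂).w)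
  have po₁ : IsPushout r (pushout.inl i₁ f₁.appTop) f.appTop u₁ :=
    IsPushout.of_left (by rw [hr₁, pushout.inr_desc]; exact spec_pullback_of_isPullback h₁)
      (by rw [pushout.inl_desc]) (IsPushout.of_hasPushout i₁ f₁.appTop)
  have po₂ : IsPushout r (pushout.inl i₂ f₂.appTop) f.appTop u₂ :=
    IsPushout.of_left (by rw [hr₂, pushout.inr_desc]; exact spec_pullback_of_isPullback h₂)
      (by rw [pushout.inl_desc]) (IsPushout.of_hasPushout i₂ f₂.appTop)
  -- finiteness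
  have hR : Algebra.FiniteType ℤ R :=
    have : Algebra.FiniteType Γ(S₁, ⊤) R := inferInstance
    hS₁.trans this
  have pb₁ : IsPullback (Spec.map (pushout.inr i₁ f₁.appTop)) (Spec.map (pushout.inl i₁ f₁.appTop))
      (Spec.map f₁.appTop) (Spec.map i₁) :=
    (isPullback_SpecMap_pushout i₁ f₁.appTop).flip
  have pb₂ : IsPullback (Spec.map (pushout.inr i₂ f₂.appTop)) (Spec.map (pushout.inl i₂ f₂.appTop))
      (Spec.map f₂.appTop) (Spec.map i₂) :=
    (isPullback_SpecMap_pushout i₂ f₂.appTop).flip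
  have e₁ : IsPullback X₁.isoSpec.inv (Spec.map f₁.appTop) f₁ S₁.isoSpec.inv :=
    IsPullback.of_horiz_isIso ⟨(Scheme.isoSpec_inv_naturality f₁).symm⟩
  have e₂ : IsPullback X₂.isoSpec.inv (Spec.map f₂.appTop) f₂ S₂.isoSpec.inv :=
    IsPullback.of_horiz_isIso ⟨(Scheme.isoSpec_inv_naturality f₂).symm⟩
  have hPC : P (Spec.map (pushout.inl i₁ f₁.appTop)) :=
    P.of_isPullback (pb₁.paste_horiz e₁) hP
  have hQC : Q (Spec.map (pushout.inl i₂ f₂.appTop)) :=
    Q.of_isPullback (pb₂.paste_horiz e₂) hQ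
  have hC₁ : LocallyOfFiniteType (Spec.map (pushout.inl i₁ f₁.appTop)) :=
    MorphismProperty.of_isPullback (pb₁.paste_horiz e₁) ‹_›
  have hC₂ : LocallyOfFiniteType (Spec.map (pushout.inl i₂ f₂.appTop)) :=
    MorphismProperty.of_isPullback (pb₂.paste_horiz e₂) ‹_›
  obtain ⟨A₀, C₀, r₀, ι, c₀, v₁, v₂, u₀, hfin, q₁, q₂, q₀⟩ :=
    exists_subalgebra_model r _ _ f.appTop u₁ u₂ po₁ po₂ hR
      ((HasRingHomProperty.Spec_iff (P := @LocallyOfFiniteType)).mp hC₁)
      ((HasRingHomProperty.Spec_iff (P := @LocallyOfFiniteType)).mp hC₂)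
  have p₁ := (isPullback_SpecMap_of_isPushout _ _ _ _ q₁).flip
  have p₂ := (isPullback_SpecMap_of_isPushout _ _ _ _ q₂).flip
  have p₀ := (isPullback_SpecMap_of_isPushout _ _ _ _ q₀).flip
  refine ⟨Spec C₀, Spec A₀, Spec.map c₀,
    S.isoSpec.hom ≫ Spec.map ι, X.isoSpec.hom ≫ Spec.map u₀, inferInstance, inferInstance,
    ?_, ?_, MorphismProperty.of_isPullback p₁ hC₁, P.of_isPullback p₁ hPC,
    Q.of_isPullback p₂ hQC⟩
  · exact (IsPullback.of_horiz_isIso ⟨(Scheme.isoSpec_hom_naturality f)⟩).paste_horiz p₀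
  · exact hfin.equiv (Scheme.ΓSpecIso A₀).symm.commRingCatIsoToRingEquiv.toIntAlgEquiv

end Scheme

end Groth.Agent.FlatMorLib.Approx
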