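import Mathlib.AlgebraicGeometry.Noetherian
import Mathlib.AlgebraicGeometry.Morphisms.UniversallyOpen

set_option autoImplicit false

universe u

open CategoryTheory Limits AlgebraicGeometry

namespace Groth.Agent.FlatMorLib

lemma exists_maximal_generization {α : Type*} [TopologicalSpace α] [QuasiSober α] [T0Space α]
    (x : α) : ∃ η : α, η ⤳ x ∧ ∀ y : α, y ⤳ η → y = η := by
  have hirr := isIrreducible_irreducibleComponent (x := x)
  have hgen := hirr.isGenericPoint_genericPoint isClosed_irreducibleComponent
  refine ⟨hirr.genericPoint, hgen.specializes mem_irreducibleComponent, fun y hy ↦ ?_⟩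
  have h1 : irreducibleComponent x ⊆ closure {y} := by
    rw [← hgen]
    exact closure_minimal (Set.singleton_subset_iff.mpr hy.mem_closure) isClosed_closure
  have h2 : irreducibleComponent x = closure {y} :=
    h1.antisymm ((irreducibleComponent_mem_irreducibleComponents x).2
      isIrreducible_singleton.closure h1)
  exact IsGenericPoint.eq (show IsGenericPoint y (irreducibleComponent x) from h2.symm) hgen

lemma mem_of_dense_of_maximal_of_noetherianSpace {α : Type*} [TopologicalSpace α]
    [TopologicalSpace.NoetherianSpace α] [QuasiSober α] [T0Space α] {U : Set α}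
    (hU : IsOpen U) (hd : Dense U) {η : α} (hη : ∀ y : α, y ⤳ η → y = η) : η ∈ U := by
  have hirr := isIrreducible_irreducibleComponent (x := η)
  have hgen := hirr.isGenericPoint_genericPoint isClosed_irreducibleComponent
  have hη' : hirr.genericPoint = η := hη _ (hgen.specializes mem_irreducibleComponent)
  obtain ⟨o, ho, hne, ho'⟩ := TopologicalSpace.NoetherianSpace.exists_isOpen_nonempty_subset_irreducibleComponent
    (irreducibleComponent η) (irreducibleComponent_mem_irreducibleComponents η)
  obtain ⟨z, hz, hzU⟩ := hd.inter_open_nonempty o ho hne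
  rw [← hη']
  exact (hgen.specializes (ho' hz)).mem_open hU hzU

lemma mem_of_dense_of_maximal {X : Scheme.{u}} [IsLocallyNoetherian X] {U : X.Opens}
    (hd : Dense (U : Set X)) {η : X} (hη : ∀ y : X, y ⤳ η → y = η) : η ∈ U := by
  obtain ⟨V₀, hV, hηV, -⟩ := TopologicalSpace.Opens.isBasis_iff_nbhd.mp X.isBasis_affineOpens
    (show η ∈ (⊤ : X.Opens) from trivial)
  let V : X.Opens := V₀
  have : IsAffine (V : Scheme.{u}) := hV
  have : IsNoetherian (V : Scheme.{u}) := {}
  exact mem_of_dense_of_maximal_of_noetherianSpace (U := V.ι ⁻¹' (U : Set X))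
    (U.isOpen.preimage V.ι.continuous) (hd.preimage V.ι.isOpenEmbedding.isOpenMap)
    (η := ⟨η, hηV⟩) (fun y hy ↦ Subtype.ext (hη y.1 (hy.map V.ι.continuous)))

end Groth.Agent.FlatMorLib
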