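import Mathlib.AlgebraicGeometry.Morphisms.QuasiFinite
import Mathlib.AlgebraicGeometry.Noetherian
import Mathlib.AlgebraicGeometry.Morphisms.UniversallyOpen
import Mathlib.AlgebraicGeometry.ResidueField
import Mathlib.RingTheory.Algebraic.Integral
import Groth.Agent.AlgSpc.UnivOpenField
import Groth.Agent.FlatMorLib.MaxPoints

set_option autoImplicit false

universe u

open CategoryTheory Limits AlgebraicGeometry TopologicalSpace

namespace Groth.Agent.FlatMorLib

lemma isClosed_singleton_of_maximal_generization {α : Type*} [TopologicalSpace α]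
    [NoetherianSpace α] [QuasiSober α] [T0Space α] {x : α} (hc : IsClosed {x})
    (hx : ∀ y : α, y ⤳ x → y = x) : IsOpen {x} := by
  have hcomp : irreducibleComponent x = {x} := by
    refine Set.Subset.antisymm ?_ (Set.singleton_subset_iff.mpr mem_irreducibleComponent)
    have hgen := (isIrreducible_irreducibleComponent (x := x)).isGenericPoint_genericPoint
      isClosed_irreducibleComponent
    have := hx _ (hgen.specializes mem_irreducibleComponent)
    rw [this] at hgen
    rw [← hgen.def, hc.closure_eq]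
  obtain ⟨o, ho, hne, ho'⟩ :=
    NoetherianSpace.exists_isOpen_nonempty_subset_irreducibleComponent
      (irreducibleComponent x) (irreducibleComponent_mem_irreducibleComponents x)
  rw [hcomp] at ho'
  rwa [(Set.subset_singleton_iff_eq.mp ho').resolve_left hne.ne_empty] at ho

lemma isOpen_singleton_of_isClosed_of_maximal {X : Scheme.{u}} [IsLocallyNoetherian X] {x : X}
    (hc : IsClosed {x}) (hx : ∀ y : X, y ⤳ x → y = x) : IsOpen {x} := by
  obtain ⟨V₀, hV, hxV, -⟩ := Opens.isBasis_iff_nbhd.mp X.isBasis_affineOpens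
    (show x ∈ (⊤ : X.Opens) from trivial)
  let V : X.Opens := V₀
  have : IsAffine (V : Scheme.{u}) := hV
  have : IsNoetherian (V : Scheme.{u}) := {}
  have h : IsOpen ({⟨x, hxV⟩} : Set (V : Scheme.{u})) := by
    refine isClosed_singleton_of_maximal_generization ?_
      fun y hy ↦ Subtype.ext (hx y.1 (hy.map V.ι.continuous))
    convert hc.preimage V.ι.continuous
    ext y
    exact Subtype.ext_iff
  simpa using V.ι.isOpenEmbedding.isOpenMap _ h

variable {X S : Scheme.{u}} (f : X ⟶ S)

lemma isClosed_singleton_of_isIntegralHom {F : Scheme.{u}} {K L : Type u} [Field K] [Field L]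
    (p : F ⟶ Spec (.of K)) (j : Spec (.of L) ⟶ F) [IsIntegralHom (j ≫ p)] :
    IsClosed ({j (IsLocalRing.closedPoint L)} : Set F) := by
  refine isClosed_singleton_iff_isClosed_inter_affine ?_
  intro U hU hxU
  have hr : Set.range j ⊆ Set.range U.ι := by
    rintro _ ⟨q, rfl⟩
    rw [Scheme.Opens.range_ι, Subsingleton.elim (α := PrimeSpectrum L) q (IsLocalRing.closedPoint L)]
    exact hxU
  let j' := IsOpenImmersion.lift U.ι j hr
  have hj : j' ≫ U.ι = j := IsOpenImmersion.lift_fac ..
  have : IsAffine (U : Scheme.{u}) := hU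
  have : IsIntegralHom (j' ≫ U.ι ≫ p) := by rw [reassoc_of% hj]; infer_instance
  have : IsIntegralHom j' := IsIntegralHom.of_comp j' (U.ι ≫ p)
  convert j'.isClosedMap.isClosed_range
  ext y
  constructor
  · intro hy
    refine ⟨IsLocalRing.closedPoint L, U.ι.isOpenEmbedding.injective ?_⟩
    rw [← Scheme.Hom.comp_apply, hj]
    exact hy.symm
  · rintro ⟨q, rfl⟩
    show U.ι (j' q) = j (IsLocalRing.closedPoint L)
    rw [← Scheme.Hom.comp_apply, hj, Subsingleton.elim (α := PrimeSpectrum L) q (IsLocalRing.closedPoint L)]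
where
  isClosed_singleton_iff_isClosed_inter_affine {F : Scheme.{u}} {x : F}
      (h : ∀ U : F.Opens, IsAffineOpen U → x ∈ U → IsClosed (U.ι ⁻¹' {x})) :
      IsClosed ({x} : Set F) := by
    rw [← isOpen_compl_iff, isOpen_iff_forall_mem_open]
    intro y hy
    obtain ⟨U₀, hU, hyU, -⟩ := Opens.isBasis_iff_nbhd.mp F.isBasis_affineOpens
      (show y ∈ (⊤ : F.Opens) from trivial)
    let U : F.Opens := U₀
    by_cases hxU : x ∈ U
    · refine ⟨U.ι '' (U.ι ⁻¹' {x})ᶜ, ?_,
        U.ι.isOpenEmbedding.isOpenMap _ (h U hU hxU).isOpen_compl, ⟨⟨y, hyU⟩, hy, rfl⟩⟩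
      rintro _ ⟨z, hz, rfl⟩
      exact hz
    · exact ⟨U, fun z hz hzx ↦ hxU ((Set.mem_singleton_iff.mp hzx) ▸ hz), U.isOpen, hyU⟩

lemma isClosed_singleton_asFiber_of_isIntegral (x : X)
    (h : (f.residueFieldMap x).hom.IsIntegral) :
    IsClosed ({f.asFiber x} : Set ↑(f.fiber (f x))) := by
  have : IsIntegralHom (f.asFiberHom x ≫ f.fiberToSpecResidueField (f x)) := by
    rw [Scheme.Hom.asFiberHom_fiberToSpecResidueField, IsIntegralHom.SpecMap_iff]
    exact h
  have := isClosed_singleton_of_isIntegralHom (K := S.residueField (f x)) (L := X.residueField x)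
    (f.fiberToSpecResidueField (f x)) (f.asFiberHom x)
  rwa [Scheme.Hom.asFiberHom_apply] at this

lemma isClosed_singleton_of_isClosed_asFiber (x : X)
    (h : IsClosed ({f.asFiber x} : Set ↑(f.fiber (f x)))) (hs : IsClosed ({f x} : Set S)) :
    IsClosed ({x} : Set X) := by
  have hr : IsClosed (Set.range (f.fiberι (f x))) := by
    rw [Scheme.Hom.range_fiberι]; exact hs.preimage f.continuous
  have hce : Topology.IsClosedEmbedding (f.fiberι (f x)) := ⟨(f.fiberι (f x)).isEmbedding, hr⟩
  have := hce.isClosedMap _ h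
  rwa [Set.image_singleton, Scheme.Hom.fiberι_asFiber] at this

lemma isClosed_singleton_asFiber_iff [LocallyOfFiniteType f] (x : X) :
    IsClosed ({f.asFiber x} : Set ↑(f.fiber (f x))) ↔ (f.residueFieldMap x).hom.Finite := by
  refine ⟨fun h ↦ ?_, fun h ↦ isClosed_singleton_asFiber_of_isIntegral f x
    (RingHom.IsIntegral.of_finite h)⟩
  have : LocallyOfFiniteType (f.fiberToSpecResidueField (f x)) :=
    MorphismProperty.pullback_snd _ _ inferInstance
  have : IsClosedImmersion (f.asFiberHom x) :=
    .of_isPreimmersion _ (by rwa [Scheme.Hom.range_asFiberHom])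
  have : LocallyOfFiniteType (Spec.map (f.residueFieldMap x)) := by
    rw [← Scheme.Hom.asFiberHom_fiberToSpecResidueField]; infer_instance
  have : JacobsonSpace (Spec (S.residueField (f x))) :=
    inferInstanceAs (JacobsonSpace (PrimeSpectrum (S.residueField (f x))))
  have : Subsingleton (Spec (X.residueField x)) :=
    inferInstanceAs (Subsingleton (PrimeSpectrum (X.residueField x)))
  rw [← IsFinite.SpecMap_iff, isFinite_iff_locallyOfFiniteType_of_jacobsonSpace]
  infer_instance

lemma quasiFiniteAt_iff_isClosed_and_maximal [LocallyOfFiniteType f] (x : X) :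
    f.QuasiFiniteAt x ↔ (IsClosed ({f.asFiber x} : Set ↑(f.fiber (f x))) ∧
      ∀ x' : ↑(f.fiber (f x)), x' ⤳ f.asFiber x → x' = f.asFiber x) := by
  refine ⟨fun h ↦ ⟨(h.isClopen_singleton_asFiber (f := f)).1,
    fun x' hx' ↦ hx'.mem_open (h.isClopen_singleton_asFiber (f := f)).2 rfl⟩, fun ⟨hc, hm⟩ ↦ ?_⟩
  have : LocallyOfFiniteType (f.fiberToSpecResidueField (f x)) :=
    MorphismProperty.pullback_snd _ _ inferInstance
  have : IsLocallyNoetherian (f.fiber (f x)) :=
    LocallyOfFiniteType.isLocallyNoetherian (f.fiberToSpecResidueField (f x))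
  exact Scheme.Hom.quasiFiniteAt_iff_isOpen_singleton_asFiber.mpr
    (isOpen_singleton_of_isClosed_of_maximal hc hm)

lemma asFiber_cast {s : S} {x : X} (hx : f x = s) :
    ∃ z : f.fiber s, f.fiberι s z = x ∧
      (IsClosed ({z} : Set (f.fiber s)) ↔ IsClosed ({f.asFiber x} : Set ↑(f.fiber (f x)))) ∧
      (IsOpen ({z} : Set (f.fiber s)) ↔ IsOpen ({f.asFiber x} : Set ↑(f.fiber (f x)))) := by
  subst hx
  exact ⟨f.asFiber x, f.fiberι_asFiber x, .rfl, .rfl⟩

lemma quasiFiniteAt_iff_isOpen_singleton [LocallyOfFiniteType f] {s : S} (z : f.fiber s) :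
    f.QuasiFiniteAt (f.fiberι s z) ↔ IsOpen ({z} : Set (f.fiber s)) := by
  have hs : f (f.fiberι s z) = s := by
    have : f.fiberι s z ∈ Set.range (f.fiberι s) := ⟨z, rfl⟩
    rwa [Scheme.Hom.range_fiberι] at this
  obtain ⟨z', hz', -, ho⟩ := asFiber_cast f hs
  obtain rfl : z' = z := (f.fiberι s).isEmbedding.injective hz'
  rw [Scheme.Hom.quasiFiniteAt_iff_isOpen_singleton_asFiber, ho]

lemma finite_setOf_quasiFiniteAt [LocallyOfFiniteType f] [QuasiCompact f] (s : S) :
    {x : X | f x = s ∧ f.QuasiFiniteAt x}.Finite := by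
  have : LocallyOfFiniteType (f.fiberToSpecResidueField s) :=
    MorphismProperty.pullback_snd _ _ inferInstance
  have : IsLocallyNoetherian (f.fiber s) :=
    LocallyOfFiniteType.isLocallyNoetherian (f.fiberToSpecResidueField s)
  have : IsNoetherian (f.fiber s) := {}
  let U : Set (f.fiber s) := {z | IsOpen ({z} : Set (f.fiber s))}
  have hU : U.Finite := by
    have hc : IsCompact U := NoetherianSpace.isCompact U
    obtain ⟨t, ht⟩ := hc.elim_finite_subcover (fun z : U ↦ ({z.1} : Set (f.fiber s)))
      (fun z ↦ z.2) (fun z hz ↦ Set.mem_iUnion.mpr ⟨⟨z, hz⟩, rfl⟩)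
    exact Set.Finite.subset (t.finite_toSet.biUnion fun i _ ↦ Set.finite_singleton i.1) ht
  refine (hU.image (f.fiberι s)).subset ?_
  rintro x ⟨hx, hq⟩
  obtain ⟨z, rfl⟩ : x ∈ Set.range (f.fiberι s) := by rw [Scheme.Hom.range_fiberι]; exact hx
  exact ⟨z, (quasiFiniteAt_iff_isOpen_singleton f z).mp hq, rfl⟩

lemma locallyQuasiFinite_of_forall_finite_residueFieldMap [LocallyOfFiniteType f]
    (h : ∀ x, (f.residueFieldMap x).hom.Finite) : LocallyQuasiFinite f := by
  refine LocallyQuasiFinite.of_fiberToSpecResidueField f fun s ↦ ?_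
  have : LocallyOfFiniteType (f.fiberToSpecResidueField s) :=
    MorphismProperty.pullback_snd _ _ inferInstance
  have : IsLocallyNoetherian (f.fiber s) :=
    LocallyOfFiniteType.isLocallyNoetherian (f.fiberToSpecResidueField s)
  have hc : ∀ z : f.fiber s, IsClosed ({z} : Set (f.fiber s)) := fun z ↦ by
    have hs : f (f.fiberι s z) = s := by
      have : f.fiberι s z ∈ Set.range (f.fiberι s) := ⟨z, rfl⟩
      rwa [Scheme.Hom.range_fiberι] at this
    obtain ⟨z', hz', hcl, -⟩ := asFiber_cast f hs
    obtain rfl : z' = z := (f.fiberι s).isEmbedding.injective hz'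
    exact hcl.mpr ((isClosed_singleton_asFiber_iff f _).mpr (h _))
  have hd : DiscreteTopology (f.fiber s) := discreteTopology_iff_isOpen_singleton.mpr fun z ↦
    isOpen_singleton_of_isClosed_of_maximal (hc z) fun y hy ↦
      Eq.symm ((hy.mem_closed (hc y) rfl) : z = y)
  exact locallyQuasiFinite_iff_isDiscrete_preimage_singleton.mpr
    fun _ ↦ ⟨inferInstance⟩

section baseChange

variable {X' S' : Scheme.{u}} {f : X ⟶ S} {g : S' ⟶ S} {g' : X' ⟶ X} {f' : X' ⟶ S'}

lemma exists_fiber_map (hsq : IsPullback g' f' f g) (x' : X') :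
    ∃ (m : f'.fiber (f' x') ⟶ f.fiber (g (f' x'))) (p : f.fiber (g (f' x'))),
      IsPullback m (f'.fiberToSpecResidueField (f' x'))
        (f.fiberToSpecResidueField (g (f' x'))) (Spec.map (g.residueFieldMap (f' x'))) ∧
      m (f'.asFiber x') = p ∧
      f.fiberι (g (f' x')) p = g' x' := by
  have h := isPullback_fiberToSpecResidueField_of_isPullback hsq (f' x')
  refine ⟨_, _, h, rfl, ?_⟩
  rw [← Scheme.Hom.comp_apply]
  conv_rhs => rw [← f'.fiberι_asFiber x', ← Scheme.Hom.comp_apply]
  exact congrArg (fun q : f'.fiber (f' x') ⟶ X ↦ q (f'.asFiber x')) (pullback.lift_fst _ _ _)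

lemma isClosed_singleton_asFiber_baseChange [LocallyOfFiniteType f] (hsq : IsPullback g' f' f g)
    (x' : X') (hx : IsClosed ({f.asFiber (g' x')} : Set ↑(f.fiber (f (g' x'))))) :
    IsClosed ({f'.asFiber x'} : Set ↑(f'.fiber (f' x'))) := by
  obtain ⟨m, p, h, hp, hpx⟩ := exists_fiber_map hsq x'
  have hfs : f (g' x') = g (f' x') := by rw [← Scheme.Hom.comp_apply, hsq.w, Scheme.Hom.comp_apply]
  obtain ⟨z, hz, hcl, -⟩ := asFiber_cast f hfs
  obtain rfl : z = p := (f.fiberι _).isEmbedding.injective (hz.trans hpx.symm)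
  have hpc := hcl.mpr hx
  let j := (f.fiber (g (f' x'))).fromSpecResidueField z
  have : IsClosedImmersion j := isClosed_singleton_iff_isClosedImmersion.mp hpc
  have : LocallyOfFiniteType (f.fiberToSpecResidueField (g (f' x'))) :=
    MorphismProperty.pullback_snd _ _ inferInstance
  have : JacobsonSpace (Spec (S.residueField (g (f' x')))) :=
    inferInstanceAs (JacobsonSpace (PrimeSpectrum (S.residueField (g (f' x')))))
  have : Subsingleton (Spec ((f.fiber (g (f' x'))).residueField z)) :=
    inferInstanceAs (Subsingleton (PrimeSpectrum _))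
  have hfin : IsFinite (j ≫ f.fiberToSpecResidueField (g (f' x'))) :=
    isFinite_iff_locallyOfFiniteType_of_jacobsonSpace.mpr inferInstance
  have : IsFinite (pullback.fst m j ≫ f'.fiberToSpecResidueField (f' x')) :=
    MorphismProperty.of_isPullback ((IsPullback.of_hasPullback m j).flip.paste_vert h) hfin
  have : DiscreteTopology ↑(pullback m j) := by
    have : IsLocallyArtinian (pullback m j) :=
      .of_locallyQuasiFinite (pullback.fst m j ≫ f'.fiberToSpecResidueField (f' x'))
    infer_instance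
  obtain ⟨w, hw, -⟩ := Scheme.Pullback.exists_preimage_pullback (f'.asFiber x')
    (IsLocalRing.closedPoint _) (f := m) (g := j)
    (by rw [hp]; exact (Scheme.fromSpecResidueField_apply _ _).symm)
  have := (pullback.fst m j).isClosedEmbedding.isClosedMap {w} (isClosed_discrete _)
  rwa [Set.image_singleton, hw] at this

lemma quasiFiniteAt_baseChange_iff [LocallyOfFiniteType f] (hsq : IsPullback g' f' f g) (x' : X') :
    f'.QuasiFiniteAt x' ↔ f.QuasiFiniteAt (g' x') := by
  have : LocallyOfFiniteType f' := MorphismProperty.of_isPullback hsq inferInstance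
  obtain ⟨m, p, h, hp, hpx⟩ := exists_fiber_map hsq x'
  have key : f.QuasiFiniteAt (g' x') ↔ IsOpen ({p} : Set (f.fiber (g (f' x')))) := by
    rw [← hpx]; exact quasiFiniteAt_iff_isOpen_singleton f p
  rw [key, Scheme.Hom.quasiFiniteAt_iff_isOpen_singleton_asFiber]
  refine ⟨fun ho ↦ ?_, fun ho ↦ ?_⟩
  · have := Groth.Agent.AlgSpc.universallyOpen_to_field (k := S.residueField (g (f' x')))
      (Spec.map (g.residueFieldMap (f' x')))
    have : UniversallyOpen m := MorphismProperty.of_isPullback h.flip inferInstance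
    have := m.isOpenMap _ ho
    rwa [Set.image_singleton, hp] at this
  · let P : (f.fiber (g (f' x'))).Opens := ⟨{p}, ho⟩
    have hPs : Subsingleton (P : Scheme.{u}) := inferInstanceAs (Subsingleton ({p} : Set _))
    have : LocallyOfFiniteType (f.fiberToSpecResidueField (g (f' x'))) :=
      MorphismProperty.pullback_snd _ _ inferInstance
    have : LocallyQuasiFinite (P.ι ≫ f.fiberToSpecResidueField (g (f' x'))) :=
      LocallyQuasiFinite.of_injective (fun a b _ ↦ Subsingleton.elim a b)
    have hpb := (IsPullback.of_hasPullback m P.ι).flip.paste_vert h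
    have : LocallyQuasiFinite (pullback.fst m P.ι ≫ f'.fiberToSpecResidueField (f' x')) :=
      MorphismProperty.of_isPullback hpb inferInstance
    have : DiscreteTopology ↑(pullback m P.ι) := by
      have : IsLocallyArtinian (pullback m P.ι) :=
        .of_locallyQuasiFinite (pullback.fst m P.ι ≫ f'.fiberToSpecResidueField (f' x'))
      infer_instance
    obtain ⟨w, hw, -⟩ := Scheme.Pullback.exists_preimage_pullback (f'.asFiber x') (⟨p, rfl⟩ : P)
      (f := m) (g := P.ι) (by rw [hp]; rfl)
    have := (pullback.fst m P.ι).isOpenEmbedding.isOpenMap {w} (isOpen_discrete _)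
    rwa [Set.image_singleton, hw] at this

end baseChange

lemma finite_residueFieldMap_of_comp_surjective {Y : Scheme.{u}} (f : X ⟶ Y) (g : Y ⟶ S)
    [LocallyQuasiFinite (f ≫ g)] [LocallyOfFiniteType (f ≫ g)] (y : Y) (hy : y ∈ Set.range f) :
    (g.residueFieldMap y).hom.Finite := by
  obtain ⟨x, rfl⟩ := hy
  have := (isClosed_singleton_asFiber_iff (f ≫ g) x).mp
    (((f ≫ g).quasiFiniteAt x).isClopen_singleton_asFiber (f := f ≫ g)).1
  rw [Scheme.residueFieldMap_comp] at this
  change ((f.residueFieldMap x).hom.comp (g.residueFieldMap (f x)).hom).Finite at this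
  algebraize [(g.residueFieldMap (f x)).hom, (f.residueFieldMap x).hom,
    (f.residueFieldMap x).hom.comp (g.residueFieldMap (f x)).hom]
  exact RingHom.finite_algebraMap.mpr (Module.Finite.of_injective
    (IsScalarTower.toAlgHom _ _ (X.residueField x)).toLinearMap (f.residueFieldMap x).hom.injective)

end Groth.Agent.FlatMorLib
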