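import Mathlib.RingTheory.ZariskisMainTheorem
import Mathlib.RingTheory.NoetherNormalization
import Mathlib.RingTheory.Valuation.LocalSubring
import Mathlib.RingTheory.IntegralClosure.GoingDown
import Mathlib.RingTheory.Ideal.GoingUp
import Mathlib.RingTheory.Polynomial.IsIntegral
import Mathlib.RingTheory.AlgebraicIndependent.Transcendental
import Mathlib.RingTheory.Jacobson.Ring
import Mathlib.Algebra.MvPolynomial.Funext
import Mathlib.Algebra.GCDMonoid.IntegrallyClosed
import Mathlib.RingTheory.Bezout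
import Mathlib.RingTheory.Valuation.ValuationRing

/-!
# Closed points of the generic fibre specializing to a given point

Algebraic core: a finite type domain over a valuation ring (not a field) has, avoiding any nonzero
element, closed points of the generic fibre specializing to a given closed point of the special
fibre.
-/

set_option autoImplicit false

universe u

open MvPolynomial

namespace Groth.Agent.FlatMorLib.ClosedGen

lemma isIntegrallyClosed_mvPolynomial_fin (V : Type u) [CommRing V] [IsDomain V]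
    [IsIntegrallyClosed V] (n : ℕ) : IsIntegrallyClosed (MvPolynomial (Fin n) V) := by
  induction n with
  | zero => exact .of_equiv (isEmptyRingEquiv V (Fin 0)).symm
  | succ n ih => exact .of_equiv (finSuccEquiv V n).toRingEquiv.symm

lemma exists_dvd_all {V ι : Type*} [CommRing V] [IsDomain V] [ValuationRing V] (c : ι → V)
    (s : Finset ι) (hs : s.Nonempty) : ∃ i ∈ s, ∀ j ∈ s, c i ∣ c j := by
  classical
  induction hs using Finset.Nonempty.cons_induction with
  | singleton a => exact ⟨a, by simp, by simp⟩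
  | cons a s ha hs ih =>
    obtain ⟨i, hi, h⟩ := ih
    rcases ValuationRing.dvd_total (c a) (c i) with h' | h'
    · refine ⟨a, by simp, fun j hj ↦ ?_⟩
      rcases Finset.mem_cons.mp hj with rfl | hj
      · exact dvd_rfl
      · exact h'.trans (h j hj)
    · refine ⟨i, by simp [hi], fun j hj ↦ ?_⟩
      rcases Finset.mem_cons.mp hj with rfl | hj
      · exact h'
      · exact h j hj

/-- Noether normalization of the special fibre, centred at the given point. -/
lemma exists_coords {k Bb : Type u} [Field k] [CommRing Bb] [Algebra k Bb]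
    [Algebra.FiniteType k Bb] [Nontrivial Bb] (mb : Ideal Bb) [mb.IsMaximal] :
    ∃ (n : ℕ) (t : Fin n → Bb), (∀ i, t i ∈ mb) ∧ AlgebraicIndependent k t ∧
      (MvPolynomial.aeval (R := k) t).toRingHom.IsIntegral := by
  classical
  obtain ⟨n, g, hg, hfin⟩ := exists_finite_inj_algHom_of_fg k Bb
  let _ : Field (Bb ⧸ mb) := Ideal.Quotient.field mb
  have : Module.Finite k (Bb ⧸ mb) := finite_of_finite_type_of_isJacobsonRing k (Bb ⧸ mb)
  let s : Fin n → Bb := fun i ↦ g (X i)
  have hgs : g = MvPolynomial.aeval s := MvPolynomial.algHom_ext fun i ↦ by simp [s]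
  have hind : AlgebraicIndependent k s := by
    rw [algebraicIndependent_iff_injective_aeval, ← hgs]
    exact hg
  let φ : Fin n → Polynomial k := fun i ↦ minpoly k (Ideal.Quotient.mk mb (s i))
  have hint : ∀ i, IsIntegral k (Ideal.Quotient.mk mb (s i)) := fun i ↦ IsIntegral.of_finite k _
  have hdeg : ∀ i, 0 < (φ i).natDegree := fun i ↦ minpoly.natDegree_pos (hint i)
  let t : Fin n → Bb := fun i ↦ Polynomial.aeval (s i) (φ i)
  refine ⟨n, t, fun i ↦ ?_, ?_, ?_⟩
  · rw [← Ideal.Quotient.eq_zero_iff_mem, ← Ideal.Quotient.mkₐ_eq_mk k,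
      ← Polynomial.aeval_algHom_apply, Ideal.Quotient.mkₐ_eq_mk]
    exact minpoly.aeval k _
  · exact hind.polynomial_aeval_of_transcendental fun i ↦
      Polynomial.transcendental (φ i) (hdeg i).ne' (mem_nonZeroDivisors_of_ne_zero (by rw [Polynomial.leadingCoeff_ne_zero]; exact Polynomial.ne_zero_of_natDegree_gt (hdeg i)))
  · let aT : (MvPolynomial (Fin n) k) →ₐ[k] Bb := MvPolynomial.aeval t
    let _ := aT.toRingHom.toAlgebra
    have : IsScalarTower k (MvPolynomial (Fin n) k) Bb := .of_algebraMap_eq fun x ↦ (aT.commutes x).symm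
    have hs : ∀ i, IsIntegral (MvPolynomial (Fin n) k) (s i) := by
      intro i
      refine ⟨(φ i).map (algebraMap k (MvPolynomial (Fin n) k)) - Polynomial.C (X i), ?_, ?_⟩
      · refine ((minpoly.monic (hint i)).map _).sub_of_left ?_
        refine Polynomial.degree_C_le.trans_lt ?_
        rw [Polynomial.degree_map, ← Polynomial.natDegree_pos_iff_degree_pos]
        exact hdeg i
      · rw [← Polynomial.aeval_def, map_sub, Polynomial.aeval_map_algebraMap, Polynomial.aeval_C]
        show t i - aT (X i) = 0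
        simp [aT]
    have hmem : ∀ p, g p ∈ integralClosure (MvPolynomial (Fin n) k) Bb := by
      intro p
      induction p using MvPolynomial.induction_on with
      | C a =>
        rw [show g (MvPolynomial.C a) = algebraMap k Bb a from g.commutes a,
          IsScalarTower.algebraMap_apply k (MvPolynomial (Fin n) k) Bb]
        exact isIntegral_algebraMap
      | add p q hp hq => rw [map_add]; exact add_mem hp hq
      | mul_X p i hp => rw [map_mul]; exact mul_mem hp (hs i)
    intro b
    obtain ⟨P, hP, hP0⟩ := hfin.to_isIntegral b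
    let g' : (MvPolynomial (Fin n) k) →+* integralClosure (MvPolynomial (Fin n) k) Bb := g.toRingHom.codRestrict _ hmem
    have hb : IsIntegral (integralClosure (MvPolynomial (Fin n) k) Bb) b := by
      refine ⟨P.map g', hP.map g', ?_⟩
      rw [Polynomial.eval₂_map]
      exact hP0
    exact isIntegral_trans (R := (MvPolynomial (Fin n) k)) b hb

section Core

variable {V B : Type u} [CommRing V] [IsDomain V] [ValuationRing V]
  [CommRing B] [IsDomain B] [Algebra V B] [Algebra.FiniteType V B] [FaithfulSMul V B]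

theorem exists_closed_generic_point (m : Ideal B) [m.IsMaximal]
    (hm : m.comap (algebraMap V B) = IsLocalRing.maximalIdeal V)
    (hV : IsLocalRing.maximalIdeal V ≠ ⊥) {g : B} (hg : g ≠ 0) :
    ∃ q : Ideal B, q.IsPrime ∧ q ≤ m ∧ q.comap (algebraMap V B) = ⊥ ∧ g ∉ q ∧
      ∀ y ∉ q, ∃ v : V, v ≠ 0 ∧ ∃ z, algebraMap V B v - y * z ∈ q := by
  classical
  set mV := IsLocalRing.maximalIdeal V with hmVdef
  let k := V ⧸ mV
  let _ : Field k := Ideal.Quotient.field mV
  let I : Ideal B := mV.map (algebraMap V B)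
  have hIm : I ≤ m := Ideal.map_le_iff_le_comap.mpr hm.ge
  let Bb := B ⧸ I
  have : Nontrivial Bb := Ideal.Quotient.nontrivial_iff.mpr
    (ne_top_of_le_ne_top Ideal.IsPrime.ne_top' hIm)
  let ι : k →+* Bb := Ideal.quotientMap I (algebraMap V B) Ideal.le_comap_map
  let _ := ι.toAlgebra
  have : IsScalarTower V k Bb := .of_algebraMap_eq fun x ↦ rfl
  have : Algebra.FiniteType V Bb :=
    .of_surjective (Ideal.Quotient.mkₐ V I) (Ideal.Quotient.mkₐ_surjective V I)
  have : Algebra.FiniteType k Bb := .of_restrictScalars_finiteType V k Bb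
  let mb : Ideal Bb := m.map (Ideal.Quotient.mk I)
  have hmb : mb.comap (Ideal.Quotient.mk I) = m := by
    rw [Ideal.comap_map_of_surjective _ Ideal.Quotient.mk_surjective, ← RingHom.ker_eq_comap_bot,
      Ideal.mk_ker, sup_eq_left.mpr hIm]
  have : mb.IsMaximal := by
    refine Ideal.map_eq_top_or_isMaximal_of_surjective _ Ideal.Quotient.mk_surjective
      ‹m.IsMaximal› |>.resolve_left fun h ↦ ?_
    exact Ideal.IsPrime.ne_top' (I := m) (by rw [← hmb]; simp [mb, h])
  obtain ⟨n, tb, htb, hind, hint⟩ := exists_coords (k := k) mb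
  choose t ht using fun i ↦ Ideal.Quotient.mk_surjective (tb i)
  have htm : ∀ i, t i ∈ m := fun i ↦ by rw [← hmb, Ideal.mem_comap, ht]; exact htb i
  let aT : (MvPolynomial (Fin n) V) →ₐ[V] B := MvPolynomial.aeval t
  have hred : ∀ p : (MvPolynomial (Fin n) V), Ideal.Quotient.mk I (aT p) =
      MvPolynomial.aeval tb (MvPolynomial.map (Ideal.Quotient.mk mV) p) := by
    intro p
    induction p using MvPolynomial.induction_on with
    | C a => simp [aT, RingHom.algebraMap_toAlgebra, ι, Ideal.Quotient.algebraMap_eq]; rfl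
    | add p q hp hq => simp only [map_add, hp, hq]
    | mul_X p i hp => simp only [map_mul, hp]; simp [aT, ht]
  -- injectivity
  have hinj : Function.Injective aT := by
    rw [injective_iff_map_eq_zero]
    intro p hp
    by_contra hp0
    obtain ⟨d, hd, hdvd⟩ :=
      exists_dvd_all (fun e ↦ p.coeff e) p.support (MvPolynomial.support_nonempty.mpr hp0)
    have hc : p.coeff d ≠ 0 := MvPolynomial.mem_support_iff.mp hd
    have hCd : MvPolynomial.C (p.coeff d) ∣ p := by
      rw [MvPolynomial.C_dvd_iff_dvd_coeff]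
      intro e
      by_cases he : e ∈ p.support
      · exact hdvd e he
      · simp [MvPolynomial.notMem_support_iff.mp he]
    obtain ⟨p', hp'⟩ := hCd
    have h1 : p'.coeff d = 1 := by
      have := congr(MvPolynomial.coeff d $hp')
      rw [MvPolynomial.coeff_C_mul] at this
      exact mul_left_cancel₀ hc (by rw [← this, mul_one])
    have h0 : aT p' = 0 := by
      rw [hp', map_mul] at hp
      refine (mul_eq_zero.mp hp).resolve_left fun h ↦ hc ?_
      simp only [aT, MvPolynomial.aeval_C] at h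
      exact FaithfulSMul.algebraMap_injective V B (by rw [h, map_zero])
    have := hred p'
    rw [h0, map_zero, eq_comm, ← map_zero (MvPolynomial.aeval (R := k) tb)] at this
    have := congr(MvPolynomial.coeff d $(hind this))
    rw [MvPolynomial.coeff_map, h1, map_one, MvPolynomial.coeff_zero] at this
    exact one_ne_zero this
  let _ : Algebra (MvPolynomial (Fin n) V) B := aT.toRingHom.toAlgebra
  have : IsScalarTower V (MvPolynomial (Fin n) V) B := .of_algebraMap_eq fun x ↦ (aT.commutes x).symm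
  have : Algebra.FiniteType (MvPolynomial (Fin n) V) B := .of_restrictScalars_finiteType V (MvPolynomial (Fin n) V) B
  have : FaithfulSMul (MvPolynomial (Fin n) V) B := (faithfulSMul_iff_algebraMap_injective (MvPolynomial (Fin n) V) B).mpr hinj
  let M : Ideal (MvPolynomial (Fin n) V) := m.comap aT.toRingHom
  have : M.IsPrime := Ideal.comap_isPrime _ _
  have hXM : ∀ i, (MvPolynomial.X i : (MvPolynomial (Fin n) V)) ∈ M := fun i ↦ by simpa [M, aT] using htm i
  have hCM : ∀ v ∈ mV, (MvPolynomial.C v : (MvPolynomial (Fin n) V)) ∈ M := fun v hv ↦ by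
    simpa [M, aT] using hm.ge hv
  -- quasi-finiteness at `m`
  have hQF : Algebra.QuasiFiniteAt (MvPolynomial (Fin n) V) m := by
    have : m.LiesOver M := ⟨rfl⟩
    have : Algebra.FiniteType V Bb := inferInstance
    have : IsScalarTower V (MvPolynomial (Fin n) V) Bb := .of_algebraMap_eq fun x ↦ by
      show Ideal.Quotient.mk I (algebraMap V B x) = Ideal.Quotient.mk I (aT (algebraMap V (MvPolynomial (Fin n) V) x))
      rw [aT.commutes]
    have : Algebra.FiniteType (MvPolynomial (Fin n) V) Bb := .of_restrictScalars_finiteType V (MvPolynomial (Fin n) V) Bb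
    have : Algebra.IsIntegral (MvPolynomial (Fin n) V) Bb := by
      refine ⟨fun b ↦ ?_⟩
      obtain ⟨P, hP, hP0⟩ := hint b
      have hsurj : Function.Surjective (MvPolynomial.map (σ := Fin n) (Ideal.Quotient.mk mV)) :=
        MvPolynomial.map_surjective _ Ideal.Quotient.mk_surjective
      obtain ⟨P', hP', -, hmon⟩ := Polynomial.lifts_and_natDegree_eq_and_monic
        ((Polynomial.mem_lifts _).mpr (Polynomial.map_surjective _ hsurj P)) hP
      refine ⟨P', hmon, ?_⟩
      rw [← hP', Polynomial.eval₂_map] at hP0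
      have hcomp : algebraMap (MvPolynomial (Fin n) V) Bb = (MvPolynomial.aeval tb).toRingHom.comp
          (MvPolynomial.map (Ideal.Quotient.mk mV)) := RingHom.ext hred
      rw [hcomp]
      exact hP0
    have : Module.Finite (MvPolynomial (Fin n) V) Bb := Algebra.IsIntegral.finite
    obtain ⟨l, y, hy⟩ := Module.Finite.exists_fin (R := (MvPolynomial (Fin n) V)) (M := Bb)
    choose y' hy' using fun i ↦ Ideal.Quotient.mk_surjective (y i)
    let F := TensorProduct (MvPolynomial (Fin n) V) M.ResidueField B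
    have hF : Module.Finite M.ResidueField (M.Fiber B) := by
      let N : Submodule M.ResidueField (M.Fiber B) :=
        Submodule.span _ (Set.range fun i ↦ (1 : M.ResidueField) ⊗ₜ[(MvPolynomial (Fin n) V)] y' i)
      have hzero : ∀ b ∈ I, (1 : M.ResidueField) ⊗ₜ[(MvPolynomial (Fin n) V)] b = (0 : M.Fiber B) := by
        intro b hb
        have hle : I ≤ (M.map (algebraMap (MvPolynomial (Fin n) V) B)) := by
          refine Ideal.map_le_iff_le_comap.mpr fun v hv ↦ ?_
          rw [Ideal.mem_comap, IsScalarTower.algebraMap_apply V (MvPolynomial (Fin n) V) B]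
          exact Ideal.mem_map_of_mem _ (hCM v hv)
        refine Submodule.span_induction (p := fun x _ ↦ ∀ c : B,
          (1 : M.ResidueField) ⊗ₜ[(MvPolynomial (Fin n) V)] (c * x) = (0 : M.Fiber B)) ?_ ?_ ?_ ?_
          (hle hb) 1 |> fun h ↦ by simpa using h
        · rintro _ ⟨x, hx, rfl⟩ c
          rw [mul_comm, ← Algebra.smul_def, TensorProduct.tmul_smul, TensorProduct.smul_tmul',
            ← Algebra.algebraMap_eq_smul_one,
            Ideal.algebraMap_residueField_eq_zero.mpr hx, TensorProduct.zero_tmul]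
        · simp
        · intro x z _ _ hx hz c
          rw [mul_add, TensorProduct.tmul_add, hx, hz, add_zero]
        · intro a x _ hx c
          rw [smul_eq_mul, ← mul_assoc]
          exact hx _
      suffices N = ⊤ from ⟨this ▸ Submodule.fg_span (Set.finite_range _)⟩
      refine Submodule.eq_top_iff'.mpr fun x ↦ ?_
      induction x using TensorProduct.induction_on with
      | zero => exact zero_mem _
      | add x z hx hz => exact add_mem hx hz
      | tmul a b =>
        have : (Ideal.Quotient.mk I b) ∈ Submodule.span (MvPolynomial (Fin n) V) (Set.range y) := hy ▸ Submodule.mem_top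
        obtain ⟨c, hc⟩ := (Submodule.mem_span_range_iff_exists_fun (MvPolynomial (Fin n) V)).mp this
        have hb : b - ∑ i, c i • y' i ∈ I := by
          rw [← Ideal.Quotient.eq_zero_iff_mem, map_sub, map_sum, sub_eq_zero, ← hc]
          refine Finset.sum_congr rfl fun i _ ↦ ?_
          rw [← hy' i]
          rfl
        have h1 := hzero _ hb
        rw [TensorProduct.tmul_sub, sub_eq_zero] at h1
        have h2 : a ⊗ₜ[(MvPolynomial (Fin n) V)] b = a • ((1 : M.ResidueField) ⊗ₜ[(MvPolynomial (Fin n) V)] b : M.Fiber B) := by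
          rw [TensorProduct.smul_tmul', smul_eq_mul, mul_one]
        rw [h2, h1, TensorProduct.tmul_sum]
        refine N.smul_mem a (sum_mem fun i _ ↦ ?_)
        rw [TensorProduct.tmul_smul, ← algebraMap_smul M.ResidueField (c i)]
        exact N.smul_mem _ (Submodule.subset_span ⟨i, rfl⟩)
    let Q : Ideal (M.Fiber B) :=
      (PrimeSpectrum.primesOverOrderIsoFiber (MvPolynomial (Fin n) V) B M ⟨m, inferInstance, ⟨rfl⟩⟩).asIdeal
    have hQ : m = Q.comap Algebra.TensorProduct.includeRight.toRingHom :=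
      congr($((PrimeSpectrum.primesOverOrderIsoFiber (MvPolynomial (Fin n) V) B M).symm_apply_apply
        ⟨m, inferInstance, ⟨rfl⟩⟩).1).symm
    exact .of_quasiFiniteAt_residueField M m Q hQ.symm
  obtain ⟨r, hrm, hr, hrall⟩ :=
    Algebra.zariskisMainProperty_iff.mp (Algebra.ZariskisMainProperty.of_finiteType (R := (MvPolynomial (Fin n) V)) m)
  have hr0 : r ≠ 0 := fun h ↦ hrm (h ▸ m.zero_mem)
  -- a nonzero constant multiple of `g`
  obtain ⟨kg, hkg⟩ := hrall g
  obtain ⟨c0, hc0, hc0ne⟩ := Submodule.exists_mem_ne_zero_of_ne_bot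
    (Ideal.comap_ne_bot_of_integral_mem (R := (MvPolynomial (Fin n) V)) (I := Ideal.span {g})
      (mul_ne_zero (pow_ne_zero kg hr0) hg)
      (Ideal.mem_span_singleton'.mpr ⟨r ^ kg, rfl⟩) hkg)
  obtain ⟨π, hπ, hπ0⟩ := Submodule.exists_mem_ne_zero_of_ne_bot hV
  obtain ⟨a, haV, hac0⟩ : ∃ a : Fin n → V, (∀ i, a i ∈ mV) ∧ MvPolynomial.eval a c0 ≠ 0 := by
    by_contra! h
    refine hc0ne (MvPolynomial.funext_set (fun _ ↦ (mV : Set V)) (fun _ ↦ ?_) fun x hx ↦ ?_)
    · refine Set.Infinite.mono ?_ (Set.infinite_range_of_injective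
        (pow_injective_of_not_isUnit (q := π) ?_ hπ0 |>.comp (add_left_injective 1)))
      · rintro _ ⟨e, rfl⟩
        exact Ideal.pow_mem_of_mem _ hπ _ e.succ_pos
      · exact (IsLocalRing.mem_maximalIdeal _).mp hπ
    · rw [map_zero]
      exact h x fun i ↦ hx i (Set.mem_univ i)
  let Pa : Ideal (MvPolynomial (Fin n) V) := RingHom.ker (MvPolynomial.eval a)
  have : Pa.IsPrime := RingHom.ker_isPrime _
  have hPaM : Pa ≤ M := by
    intro p hp
    have : (Ideal.Quotient.mk m).comp aT.toRingHom =
        ((Ideal.Quotient.mk m).comp (algebraMap V B)).comp (MvPolynomial.eval a) := by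
      refine MvPolynomial.ringHom_ext (fun v ↦ by simp [aT]) fun i ↦ ?_
      simp only [RingHom.comp_apply, AlgHom.toRingHom_eq_coe, RingHom.coe_coe, aT,
        MvPolynomial.aeval_X, MvPolynomial.eval_X]
      rw [Ideal.Quotient.eq_zero_iff_mem.mpr (htm i), eq_comm, Ideal.Quotient.eq_zero_iff_mem]
      exact hm.ge (haV i)
    have := congr($this p)
    simp only [RingHom.comp_apply, (show MvPolynomial.eval a p = 0 from hp), map_zero] at this
    exact (Ideal.Quotient.eq_zero_iff_mem (I := m)).mp this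
  let C0 := integralClosure (MvPolynomial (Fin n) V) B
  have : IsIntegrallyClosed (MvPolynomial (Fin n) V) := isIntegrallyClosed_mvPolynomial_fin V n
  have : FaithfulSMul (MvPolynomial (Fin n) V) C0 := by
    refine (faithfulSMul_iff_algebraMap_injective (MvPolynomial (Fin n) V) C0).mpr fun x y h ↦ hinj ?_
    exact congr(Subtype.val $h)
  let mC : Ideal C0 := m.comap C0.val.toRingHom
  have : mC.IsPrime := Ideal.comap_isPrime _ _
  have : mC.LiesOver M := ⟨rfl⟩
  obtain ⟨q', hq'le, hq'p, hq'over⟩ := Ideal.exists_ideal_le_liesOver_of_le mC hPaM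
  let r0 : C0 := ⟨r, hr⟩
  have hr0q : r0 ∉ q' := fun h ↦ hrm (hq'le h)
  have hpow : ∀ i, r0 ^ i ∉ q' := fun i ↦ mt (hq'p.mem_of_pow_mem i) hr0q
  have hclear : ∀ (x : B) (i j : ℕ) (hi : r ^ i * x ∈ C0) (hj : r ^ j * x ∈ C0),
      (⟨_, hi⟩ : C0) ∈ q' → (⟨_, hj⟩ : C0) ∈ q' := by
    intro x i j hi hj h
    have : r0 ^ i * ⟨_, hj⟩ = r0 ^ j * (⟨_, hi⟩ : C0) := by
      ext
      simp only [MulMemClass.coe_mul, SubmonoidClass.coe_pow, r0]
      ring
    exact (hq'p.mem_or_mem (this ▸ q'.mul_mem_left _ h)).resolve_left (hpow i)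
  have hex : ∀ x : B, ∃ i, r ^ i * x ∈ C0 := fun x ↦ hrall x
  let q : Ideal B :=
    { carrier := {x | ∃ (i : ℕ) (h : r ^ i * x ∈ C0), (⟨_, h⟩ : C0) ∈ q'}
      zero_mem' := ⟨0, by simp, by
        convert q'.zero_mem
        exact mul_zero _⟩
      add_mem' := by
        rintro x y ⟨i, hi, hi'⟩ ⟨j, hj, hj'⟩
        have e : (r0 ^ j * ⟨_, hi⟩ + r0 ^ i * ⟨_, hj⟩ : C0).val = r ^ (i + j) * (x + y) := by
          simp [r0]; ring
        have hmem : r ^ (i + j) * (x + y) ∈ C0 := e ▸ Subtype.property _
        refine ⟨i + j, hmem, ?_⟩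
        convert q'.add_mem (q'.mul_mem_left (r0 ^ j) hi') (q'.mul_mem_left (r0 ^ i) hj')
        exact e.symm
      smul_mem' := by
        rintro b x ⟨i, hi, hi'⟩
        obtain ⟨j, hj⟩ := hex b
        have e : ((⟨_, hj⟩ : C0) * ⟨_, hi⟩).val = r ^ (j + i) * (b • x) := by
          simp; ring
        have hmem : r ^ (j + i) * (b • x) ∈ C0 := e ▸ Subtype.property _
        refine ⟨j + i, hmem, ?_⟩
        convert q'.mul_mem_left ⟨_, hj⟩ hi'
        exact e.symm }
  have hqiff : ∀ x : C0, (x : B) ∈ q ↔ x ∈ q' := by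
    intro x
    constructor
    · rintro ⟨i, hi, h⟩
      have heq : r0 ^ i * x = ⟨r ^ i * (x : B), hi⟩ := by
        apply Subtype.ext
        simp [r0]
      exact (hq'p.mem_or_mem (heq ▸ h)).resolve_left (hpow i)
    · intro h
      have hmem : r ^ 0 * (x : B) ∈ C0 := by
        rw [pow_zero, one_mul]
        exact x.2
      refine ⟨0, hmem, ?_⟩
      have heq : (⟨r ^ 0 * (x : B), hmem⟩ : C0) = x := Subtype.ext (by simp)
      rw [heq]
      exact h
  have hqm : q ≤ m := by
    rintro x ⟨i, hi, h⟩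
    exact (Ideal.IsPrime.mem_or_mem ‹m.IsMaximal›.isPrime (hq'le h : r ^ i * x ∈ m)).resolve_left
      fun h' ↦ hrm (Ideal.IsPrime.mem_of_pow_mem ‹m.IsMaximal›.isPrime i h')
  have hqp : q.IsPrime := by
    refine ⟨ne_top_of_le_ne_top Ideal.IsPrime.ne_top' hqm, ?_⟩
    intro x y hxy
    rcases hxy with ⟨l, hl, hxy⟩
    obtain ⟨i, hi⟩ := hex x
    obtain ⟨j, hj⟩ := hex y
    have e : ((⟨_, hi⟩ : C0) * ⟨_, hj⟩).val = r ^ (i + j) * (x * y) := by simp; ring
    have h' := hclear (x * y) l (i + j) hl (e ▸ Subtype.property _) hxy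
    have heq := Subtype.ext (a1 := (⟨_, hi⟩ : C0) * ⟨_, hj⟩)
      (a2 := ⟨r ^ (i + j) * (x * y), e ▸ Subtype.property _⟩) e
    rcases hq'p.mem_or_mem (x := ⟨_, hi⟩) (y := ⟨_, hj⟩) (heq ▸ h') with h | h
    · exact .inl ⟨i, hi, h⟩
    · exact .inr ⟨j, hj, h⟩
  have hqC : ∀ p : (MvPolynomial (Fin n) V), aT p ∈ q ↔ MvPolynomial.eval a p = 0 := by
    intro p
    rw [show aT p = (algebraMap (MvPolynomial (Fin n) V) C0 p : C0).val from rfl, hqiff, ← Ideal.mem_comap]
    show p ∈ q'.under (MvPolynomial (Fin n) V) ↔ _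
    rw [← hq'over.over]
    rfl
  have hqV : q.comap (algebraMap V B) = ⊥ := by
    ext v
    rw [Ideal.mem_comap, ← aT.commutes, hqC, MvPolynomial.algebraMap_eq, MvPolynomial.eval_C,
      Ideal.mem_bot]
  have hgq : g ∉ q := fun hgq ↦ hac0 <| by
    obtain ⟨z, hz⟩ := Ideal.mem_span_singleton'.mp (Ideal.mem_comap.mp hc0)
    exact (hqC c0).mp (show aT c0 ∈ q from (hz : z * g = aT c0) ▸ q.mul_mem_left z hgq)
  refine ⟨q, hqp, hqm, hqV, hgq, fun y hy ↦ ?_⟩
  obtain ⟨j, hj⟩ := hrall y
  have hint' : IsIntegral V (Ideal.Quotient.mk q (r ^ j * y)) := by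
    obtain ⟨P, hP, hP0⟩ := hj
    refine ⟨P.map (MvPolynomial.eval a), hP.map _, ?_⟩
    rw [Polynomial.eval₂_map]
    have : (algebraMap V (B ⧸ q)).comp (MvPolynomial.eval a) =
        (Ideal.Quotient.mk q).comp (algebraMap (MvPolynomial (Fin n) V) B) := by
      refine MvPolynomial.ringHom_ext (fun v ↦ ?_) fun i ↦ ?_
      · simp [RingHom.algebraMap_toAlgebra, aT]
      · simp only [RingHom.comp_apply, MvPolynomial.eval_X]
        rw [← Ideal.Quotient.mk_algebraMap, eq_comm, Ideal.Quotient.mk_eq_mk_iff_sub_mem]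
        have : aT (MvPolynomial.X i - MvPolynomial.C (a i)) ∈ q := (hqC _).mpr (by simp)
        simpa [aT, RingHom.algebraMap_toAlgebra] using this
    rw [this, ← Polynomial.hom_eval₂, hP0, map_zero]
  have hne : Ideal.Quotient.mk q (r ^ j * y) ≠ 0 := by
    rw [Ne, Ideal.Quotient.eq_zero_iff_mem]
    exact hqp.mul_notMem (fun h ↦ hrm (hqm (hqp.mem_of_pow_mem j h))) hy
  obtain ⟨v, hv, hv0⟩ := Submodule.exists_mem_ne_zero_of_ne_bot
    (Ideal.comap_ne_bot_of_integral_mem hne (Ideal.mem_span_singleton_self _) hint')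
  obtain ⟨z, hz⟩ := Ideal.mem_span_singleton'.mp (Ideal.mem_comap.mp hv)
  obtain ⟨z, rfl⟩ := Ideal.Quotient.mk_surjective z
  refine ⟨v, hv0, r ^ j * z, ?_⟩
  rw [← Ideal.Quotient.eq, Ideal.Quotient.mk_algebraMap, ← hz, ← map_mul]
  ring_nf

end Core

end Groth.Agent.FlatMorLib.ClosedGen
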