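import Groth.Prelude.Def_MoreMor
import Mathlib.AlgebraicGeometry.Morphisms.Etale
import Mathlib.AlgebraicGeometry.Morphisms.Smooth
import Mathlib.AlgebraicGeometry.Morphisms.ClosedImmersion
import Mathlib.RingTheory.RingHom.Etale

set_option autoImplicit false
set_option maxHeartbeats 800000

universe u

open CategoryTheory Limits AlgebraicGeometry TopologicalSpace

namespace Groth.Agent.FlatMorLib

/-! ## Affine thickenings -/

lemma range_SpecMap_mk_eq_univ {A : Type u} [CommRing A] (I : Ideal A) (hI : I ^ 2 = ⊥) :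
    Set.range (Spec.map (CommRingCat.ofHom (Ideal.Quotient.mk I))) = Set.univ := by
  refine Set.eq_univ_of_forall fun p ↦ ?_
  show p ∈ Set.range (PrimeSpectrum.comap (Ideal.Quotient.mk I))
  rw [range_comap_of_surjective _ _ Ideal.Quotient.mk_surjective, Ideal.mk_ker]
  refine (PrimeSpectrum.mem_zeroLocus (R := A) p _).mpr (SetLike.coe_subset_coe.mpr ?_)
  exact (Ideal.IsPrime.pow_le_iff two_ne_zero).mp (hI ▸ bot_le)

lemma surjective_SpecMap_mk {A : Type u} [CommRing A] (I : Ideal A) (hI : I ^ 2 = ⊥) :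
    Surjective (Spec.map (CommRingCat.ofHom (Ideal.Quotient.mk I))) :=
  ⟨Set.range_eq_univ.mp (range_SpecMap_mk_eq_univ I hI)⟩

section
variable {X Y Z : Scheme.{u}}

lemma isFormallyEtaleHom_of_isOpenImmersion (j : X ⟶ Y) [IsOpenImmersion j] :
    MoreMor.IsFormallyEtaleHom j := by
  intro A _ I hI a b w
  have hsub : Set.range b ⊆ Set.range j := by
    rintro _ ⟨p, rfl⟩
    obtain ⟨q, rfl⟩ := (surjective_SpecMap_mk I hI).surj p
    exact ⟨a q, by rw [← Scheme.Hom.comp_apply, ← w, Scheme.Hom.comp_apply]⟩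
  refine ⟨IsOpenImmersion.lift j b hsub, ⟨?_, IsOpenImmersion.lift_fac ..⟩, ?_⟩
  · rw [← cancel_mono j, Category.assoc, IsOpenImmersion.lift_fac, w]
  · rintro l ⟨-, hl⟩
    exact IsOpenImmersion.lift_uniq j b hsub l hl

lemma isFormallySmoothHom_of_isFormallyEtaleHom {f : X ⟶ Y} (hf : MoreMor.IsFormallyEtaleHom f) :
    MoreMor.IsFormallySmoothHom f := fun A _ I hI a b w ↦ (hf A I hI a b w).exists

lemma isFormallyEtaleHom_comp {f : X ⟶ Y} {g : Y ⟶ Z} (hf : MoreMor.IsFormallyEtaleHom f)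
    (hg : MoreMor.IsFormallyEtaleHom g) : MoreMor.IsFormallyEtaleHom (f ≫ g) := by
  intro A _ I hI a b w
  obtain ⟨m, ⟨hm₁, hm₂⟩, hm⟩ := hg A I hI (a ≫ f) b (by rw [w, Category.assoc])
  obtain ⟨l, ⟨hl₁, hl₂⟩, hl⟩ := hf A I hI a m hm₁
  refine ⟨l, ⟨hl₁, by rw [← Category.assoc, hl₂, hm₂]⟩, ?_⟩
  rintro l' ⟨h₁, h₂⟩
  refine hl l' ⟨h₁, hm _ ⟨?_, ?_⟩⟩
  · rw [← Category.assoc, h₁]
  · rw [Category.assoc, h₂]

lemma isFormallySmoothHom_comp {f : X ⟶ Y} {g : Y ⟶ Z} (hf : MoreMor.IsFormallySmoothHom f)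
    (hg : MoreMor.IsFormallySmoothHom g) : MoreMor.IsFormallySmoothHom (f ≫ g) := by
  intro A _ I hI a b w
  obtain ⟨m, hm₁, hm₂⟩ := hg A I hI (a ≫ f) b (by rw [w, Category.assoc])
  obtain ⟨l, hl₁, hl₂⟩ := hf A I hI a m hm₁
  exact ⟨l, hl₁, by rw [← Category.assoc, hl₂, hm₂]⟩

lemma isFormallyEtaleHom_of_comp_mono {f : X ⟶ Y} {g : Y ⟶ Z} [Mono g]
    (h : MoreMor.IsFormallyEtaleHom (f ≫ g)) : MoreMor.IsFormallyEtaleHom f := by
  intro A _ I hI a b w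
  obtain ⟨l, ⟨h₁, h₂⟩, hl⟩ := h A I hI a (b ≫ g) (by rw [← Category.assoc, w, Category.assoc])
  refine ⟨l, ⟨h₁, by rw [← cancel_mono g, Category.assoc, h₂]⟩, ?_⟩
  rintro l' ⟨e₁, e₂⟩
  exact hl l' ⟨e₁, by rw [← Category.assoc, e₂]⟩

lemma isFormallySmoothHom_of_comp_mono {f : X ⟶ Y} {g : Y ⟶ Z} [Mono g]
    (h : MoreMor.IsFormallySmoothHom (f ≫ g)) : MoreMor.IsFormallySmoothHom f := by
  intro A _ I hI a b w
  obtain ⟨l, h₁, h₂⟩ := h A I hI a (b ≫ g) (by rw [← Category.assoc, w, Category.assoc])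
  exact ⟨l, h₁, by rw [← cancel_mono g, Category.assoc, h₂]⟩

lemma isFormallyEtaleHom_baseChange {X' Y' : Scheme.{u}} {f : X ⟶ Y} {g : Y' ⟶ Y}
    {g' : X' ⟶ X} {f' : X' ⟶ Y'} (hsq : IsPullback g' f' f g)
    (hf : MoreMor.IsFormallyEtaleHom f) : MoreMor.IsFormallyEtaleHom f' := by
  intro A _ I hI a b w
  obtain ⟨l, ⟨h₁, h₂⟩, hl⟩ := hf A I hI (a ≫ g') (b ≫ g)
    (by rw [← Category.assoc, w, Category.assoc, Category.assoc, hsq.w])
  refine ⟨hsq.lift l b h₂, ⟨hsq.hom_ext ?_ ?_, hsq.lift_snd ..⟩, ?_⟩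
  · rw [Category.assoc, hsq.lift_fst, h₁]
  · rw [Category.assoc, hsq.lift_snd, w]
  · rintro l' ⟨e₁, e₂⟩
    refine hsq.hom_ext ?_ (by rw [e₂, hsq.lift_snd])
    rw [hsq.lift_fst]
    exact hl _ ⟨by rw [← Category.assoc, e₁],
      by rw [Category.assoc, hsq.w, ← Category.assoc, e₂]⟩

lemma isFormallyEtaleHom_resLE {f : X ⟶ Y} (hf : MoreMor.IsFormallyEtaleHom f)
    (U : X.Opens) (V : Y.Opens) (h : U ≤ f ⁻¹ᵁ V) :
    MoreMor.IsFormallyEtaleHom (f.resLE V U h) :=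
  isFormallyEtaleHom_of_comp_mono (g := V.ι)
    ((Scheme.Hom.resLE_comp_ι f h).symm ▸
      isFormallyEtaleHom_comp (isFormallyEtaleHom_of_isOpenImmersion U.ι) hf)

lemma isFormallySmoothHom_resLE {f : X ⟶ Y} (hf : MoreMor.IsFormallySmoothHom f)
    (U : X.Opens) (V : Y.Opens) (h : U ≤ f ⁻¹ᵁ V) :
    MoreMor.IsFormallySmoothHom (f.resLE V U h) :=
  isFormallySmoothHom_of_comp_mono (g := V.ι)
    ((Scheme.Hom.resLE_comp_ι f h).symm ▸ isFormallySmoothHom_comp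
      (isFormallySmoothHom_of_isFormallyEtaleHom (isFormallyEtaleHom_of_isOpenImmersion U.ι)) hf)

end

/-! ## The affine case -/

section
variable {R S : CommRingCat.{u}} (φ : R ⟶ S)

lemma formallySmooth_of_isFormallySmoothHom_SpecMap
    (h : MoreMor.IsFormallySmoothHom (Spec.map φ)) : φ.hom.FormallySmooth := by
  algebraize [φ.hom]
  refine Algebra.FormallySmooth.iff_comp_surjective.mpr fun B _ _ I hI g ↦ ?_
  obtain ⟨l, hl₁, hl₂⟩ := h B I hI (Spec.map (CommRingCat.ofHom g.toRingHom))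
    (Spec.map (CommRingCat.ofHom (algebraMap R B))) (by
      rw [← Spec.map_comp, ← Spec.map_comp]
      congr 1
      ext r
      exact (g.commutes r).symm)
  obtain ⟨ψ, rfl⟩ := Spec.map_surjective l
  rw [← Spec.map_comp] at hl₁ hl₂
  refine ⟨⟨ψ.hom, fun r ↦ congr($(Spec.map_injective hl₂) r)⟩, AlgHom.ext fun s ↦ ?_⟩
  exact congr($(Spec.map_injective hl₁) s)

lemma isFormallyEtaleHom_SpecMap_iff :
    MoreMor.IsFormallyEtaleHom (Spec.map φ) ↔ φ.hom.FormallyEtale := by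
  refine ⟨fun h ↦ ?_, fun h ↦ ?_⟩
  · algebraize [φ.hom]
    refine Algebra.FormallyEtale.iff_comp_bijective.mpr fun B _ _ I hI ↦ ?_
    refine ⟨fun g₁ g₂ e ↦ ?_, fun g ↦ ?_⟩
    · obtain ⟨l, -, hl⟩ := h B I hI
        (Spec.map (CommRingCat.ofHom ((Ideal.Quotient.mkₐ R I).comp g₁).toRingHom))
        (Spec.map (CommRingCat.ofHom (algebraMap R B))) (by
          rw [← Spec.map_comp, ← Spec.map_comp]
          congr 1
          ext r
          exact (((Ideal.Quotient.mkₐ R I).comp g₁).commutes r).symm)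
      have key : ∀ g' : S →ₐ[R] B, (Ideal.Quotient.mkₐ R I).comp g' = (Ideal.Quotient.mkₐ R I).comp g₁ →
          Spec.map (CommRingCat.ofHom g'.toRingHom) = l := fun g' hg' ↦ hl _ ⟨by
          rw [← Spec.map_comp]
          congr 1
          ext s
          exact congr($hg' s), by
          rw [← Spec.map_comp]
          congr 1
          ext r
          exact g'.commutes r⟩
      have e' := Spec.map_injective ((key g₁ rfl).trans (key g₂ e.symm).symm)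
      exact AlgHom.ext fun s ↦ congr($e' s)
    · exact Algebra.FormallySmooth.iff_comp_surjective.mp
        (formallySmooth_of_isFormallySmoothHom_SpecMap φ
          (isFormallySmoothHom_of_isFormallyEtaleHom h)) I hI g
  · algebraize [φ.hom]
    intro B _ I hI a b w
    obtain ⟨a, rfl⟩ := Spec.map_surjective a
    obtain ⟨b, rfl⟩ := Spec.map_surjective b
    rw [← Spec.map_comp, ← Spec.map_comp] at w
    have w' := Spec.map_injective w
    algebraize [b.hom]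
    have : Algebra.FormallyEtale R S := h
    let g₀ : S →ₐ[R] B ⧸ I := ⟨a.hom, fun r ↦ congr($w' r).symm⟩
    obtain ⟨g, hg⟩ := (Algebra.FormallyEtale.comp_bijective R S I hI).2 g₀
    refine ⟨Spec.map (CommRingCat.ofHom g.toRingHom), ⟨?_, ?_⟩, ?_⟩
    · rw [← Spec.map_comp]
      congr 1
      ext s
      exact congr($hg s)
    · rw [← Spec.map_comp]
      congr 1
      ext r
      exact g.commutes r
    · rintro l ⟨h₁, h₂⟩
      obtain ⟨l, rfl⟩ := Spec.map_surjective l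
      rw [← Spec.map_comp] at h₁ h₂
      have h₁' := Spec.map_injective h₁
      have h₂' := Spec.map_injective h₂
      let g' : S →ₐ[R] B := ⟨l.hom, fun r ↦ congr($h₂' r)⟩
      have : g' = g := (Algebra.FormallyEtale.comp_bijective R S I hI).1
        (by rw [hg]; exact AlgHom.ext fun s ↦ congr($h₁' s))
      congr 1
      ext s
      exact congr($this s)

end

section
variable {X Y : Scheme.{u}} (f : X ⟶ Y) {U : X.Opens} {V : Y.Opens} (hU : IsAffineOpen U)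
  (hV : IsAffineOpen V) (hUV : U ≤ f ⁻¹ᵁ V)
include hU hV

lemma formallyEtale_appLE (hf : MoreMor.IsFormallyEtaleHom f) :
    (f.appLE V U hUV).hom.FormallyEtale := by
  rw [← isFormallyEtaleHom_SpecMap_iff]
  refine isFormallyEtaleHom_of_comp_mono (g := hV.fromSpec) ?_
  rw [hV.SpecMap_appLE_fromSpec f hU hUV]
  exact isFormallyEtaleHom_comp (isFormallyEtaleHom_of_isOpenImmersion _) hf

lemma formallySmooth_appLE (hf : MoreMor.IsFormallySmoothHom f) :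
    (f.appLE V U hUV).hom.FormallySmooth := by
  refine formallySmooth_of_isFormallySmoothHom_SpecMap _ ?_
  refine isFormallySmoothHom_of_comp_mono (g := hV.fromSpec) ?_
  rw [hV.SpecMap_appLE_fromSpec f hU hUV]
  exact isFormallySmoothHom_comp
    (isFormallySmoothHom_of_isFormallyEtaleHom (isFormallyEtaleHom_of_isOpenImmersion _)) hf

lemma isFormallyEtaleHom_ι_comp (h : (f.appLE V U hUV).hom.FormallyEtale) :
    MoreMor.IsFormallyEtaleHom (U.ι ≫ f) := by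
  have e : U.ι ≫ f = hU.isoSpec.hom ≫ Spec.map (f.appLE V U hUV) ≫ hV.fromSpec := by
    rw [hV.SpecMap_appLE_fromSpec f hU hUV, IsAffineOpen.isoSpec_hom,
      IsAffineOpen.toSpecΓ_fromSpec_assoc]
  rw [e]
  exact isFormallyEtaleHom_comp (isFormallyEtaleHom_of_isOpenImmersion _)
    (isFormallyEtaleHom_comp ((isFormallyEtaleHom_SpecMap_iff _).mpr h)
      (isFormallyEtaleHom_of_isOpenImmersion _))

end

/-! ## Lifting along arbitrary first order thickenings -/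

section
variable {T₀ T : Scheme.{u}} {t : T₀ ⟶ T}

lemma surjective_morphismRestrict_of (hs : Surjective t) (W : T.Opens) : Surjective (t ∣_ W) :=
  IsZariskiLocalAtTarget.restrict hs W

lemma existsUnique_lift_affineOpen (ht : MoreMor.IsFirstOrderThickening t) {X Y : Scheme.{u}}
    {g : X ⟶ Y} (hg : MoreMor.IsFormallyEtaleHom g) {W : T.Opens} (hW : IsAffineOpen W)
    (a : (t ⁻¹ᵁ W : Scheme.{u}) ⟶ X) (b : (W : Scheme.{u}) ⟶ Y) (w : (t ∣_ W) ≫ b = a ≫ g) :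
    ∃! l : (W : Scheme.{u}) ⟶ X, (t ∣_ W) ≫ l = a ∧ l ≫ g = b := by
  obtain ⟨⟨hcl, -⟩, hsq⟩ := ht
  have hW₀ : IsAffineOpen (t ⁻¹ᵁ W) := hW.preimage t
  have hsurj : Function.Surjective (t.app W) := t.app_surjective W hW
  let A := Γ(T, W)
  let I : Ideal A := RingHom.ker (t.app W).hom
  have hI : I ^ 2 = ⊥ := by
    have h1 : (t.ker * t.ker).ideal ⟨W, hW⟩ = ⊥ := by rw [hsq]; rfl
    rw [Scheme.IdealSheafData.ideal_mul, Pi.mul_apply, Scheme.Hom.ker_apply] at h1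
    rw [pow_two]
    exact h1
  let e : A ⧸ I ≃+* Γ(T₀, t ⁻¹ᵁ W) := RingHom.quotientKerEquivOfSurjective hsurj
  let ε : (t ⁻¹ᵁ W : Scheme.{u}) ≅ Spec (CommRingCat.of (A ⧸ I)) :=
    hW₀.isoSpec ≪≫ Scheme.Spec.mapIso e.toCommRingCatIso.op
  have hε : ε.hom ≫ Spec.map (CommRingCat.ofHom (Ideal.Quotient.mk I)) =
      (t ∣_ W) ≫ hW.isoSpec.hom := by
    rw [← cancel_mono hW.fromSpec]
    have : CommRingCat.ofHom (Ideal.Quotient.mk I) ≫ e.toCommRingCatIso.hom = t.app W := by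
      ext r; rfl
    simp only [ε, Iso.trans_hom, Functor.mapIso_hom, Iso.op_hom, Scheme.Spec_map,
      Quiver.Hom.unop_op, Category.assoc]
    rw [← Spec.map_comp_assoc, this, Scheme.Hom.app_eq_appLE,
      hW.SpecMap_appLE_fromSpec t hW₀, IsAffineOpen.isoSpec_hom, IsAffineOpen.isoSpec_hom,
      IsAffineOpen.toSpecΓ_fromSpec_assoc, IsAffineOpen.toSpecΓ_fromSpec, morphismRestrict_ι]
  obtain ⟨l, ⟨h₁, h₂⟩, hl⟩ := hg A I hI (ε.inv ≫ a) (hW.isoSpec.inv ≫ b) (by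
    rw [Category.assoc, ← w, Iso.eq_inv_comp, reassoc_of% hε, Iso.hom_inv_id_assoc])
  refine ⟨hW.isoSpec.hom ≫ l, ⟨?_, ?_⟩, ?_⟩
  · rw [← reassoc_of% hε, h₁, Iso.hom_inv_id_assoc]
  · rw [Category.assoc, h₂, Iso.hom_inv_id_assoc]
  · rintro l' ⟨e₁, e₂⟩
    rw [← Iso.inv_comp_eq]
    refine hl _ ⟨?_, by rw [Category.assoc, e₂]⟩
    rw [Iso.eq_inv_comp, reassoc_of% hε, Iso.hom_inv_id_assoc, e₁]

variable {X Y : Scheme.{u}} {f : X ⟶ Y}

lemma lift_unique_of_locally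
    (H : ∀ x : X, ∃ U : X.Opens, x ∈ U ∧ MoreMor.IsFormallyEtaleHom (U.ι ≫ f))
    (ht : MoreMor.IsFirstOrderThickening t) {O : Scheme.{u}} (j : O ⟶ T) [IsOpenImmersion j]
    (l₁ l₂ : O ⟶ X) (h₁ : pullback.snd t j ≫ l₁ = pullback.snd t j ≫ l₂)
    (h₂ : l₁ ≫ f = l₂ ≫ f) : l₁ = l₂ := by
  have : Surjective t := ht.1.2
  refine Scheme.hom_ext_of_forall _ _ fun z ↦ ?_
  obtain ⟨z₀, hz₀⟩ := (pullback.snd t j).surjective z
  have hz : l₁ z = l₂ z := by
    rw [← hz₀, ← Scheme.Hom.comp_apply, h₁, Scheme.Hom.comp_apply]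
  obtain ⟨U, hxU, hU⟩ := H (l₁ z)
  let O' : O.Opens := l₁ ⁻¹ᵁ U ⊓ l₂ ⁻¹ᵁ U
  obtain ⟨W₁, hW₁, hzW₁, hW₁O⟩ := Opens.isBasis_iff_nbhd.mp T.isBasis_affineOpens
    (show j z ∈ j ''ᵁ O' from ⟨z, ⟨hxU, show l₂ z ∈ U by rwa [← hz]⟩, rfl⟩)
  obtain ⟨W, rfl⟩ : ∃ W : T.Opens, W = W₁ := ⟨W₁, rfl⟩
  have hWj : Set.range W.ι ⊆ Set.range j := by
    rintro _ ⟨q, rfl⟩
    obtain ⟨q', -, hq'⟩ := hW₁O q.2
    exact ⟨q', hq'⟩
  let w : (W : Scheme.{u}) ⟶ O := IsOpenImmersion.lift j W.ι hWj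
  have hw : w ≫ j = W.ι := IsOpenImmersion.lift_fac ..
  have hwO : Set.range w ⊆ O' := by
    rintro _ ⟨q, rfl⟩
    obtain ⟨q', hq'O, hq'⟩ := hW₁O q.2
    have : w q = q' := j.isOpenEmbedding.injective (by
      rw [← Scheme.Hom.comp_apply, hw]; exact hq'.symm)
    rw [this]; exact hq'O
  have r₁ : Set.range (w ≫ l₁) ⊆ Set.range U.ι := by
    rintro _ ⟨q, rfl⟩
    rw [Scheme.Opens.range_ι, Scheme.Hom.comp_apply]
    exact (hwO ⟨q, rfl⟩).1
  have r₂ : Set.range (w ≫ l₂) ⊆ Set.range U.ι := by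
    rintro _ ⟨q, rfl⟩
    rw [Scheme.Opens.range_ι, Scheme.Hom.comp_apply]
    exact (hwO ⟨q, rfl⟩).2
  let m₁ := IsOpenImmersion.lift U.ι _ r₁
  let m₂ := IsOpenImmersion.lift U.ι _ r₂
  have hm₁ : m₁ ≫ U.ι = w ≫ l₁ := IsOpenImmersion.lift_fac ..
  have hm₂ : m₂ ≫ U.ι = w ≫ l₂ := IsOpenImmersion.lift_fac ..
  let k : (t ⁻¹ᵁ W : Scheme.{u}) ⟶ pullback t j :=
    pullback.lift (t ⁻¹ᵁ W).ι ((t ∣_ W) ≫ w)
      (by rw [Category.assoc, hw, morphismRestrict_ι])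
  have hk : k ≫ pullback.snd t j = (t ∣_ W) ≫ w := pullback.lift_snd ..
  have hm : m₁ = m₂ := by
    refine (existsUnique_lift_affineOpen ht hU hW₁ ((t ∣_ W) ≫ m₁) (m₁ ≫ U.ι ≫ f)
      (Category.assoc _ _ _).symm).unique ⟨rfl, rfl⟩ ⟨?_, ?_⟩
    · rw [← cancel_mono U.ι, Category.assoc, Category.assoc, hm₁, hm₂, ← reassoc_of% hk,
        ← reassoc_of% hk, h₁]
    · rw [reassoc_of% hm₁, reassoc_of% hm₂, h₂]
  refine ⟨j ⁻¹ᵁ W, hzW₁, ?_⟩
  have hj : (j ⁻¹ᵁ W).ι = (j ∣_ W) ≫ w := by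
    rw [← cancel_mono j, Category.assoc, hw, morphismRestrict_ι]
  rw [hj, Category.assoc, Category.assoc, ← hm₁, ← hm₂, hm]

lemma existsUnique_lift_of_locally
    (H : ∀ x : X, ∃ U : X.Opens, x ∈ U ∧ MoreMor.IsFormallyEtaleHom (U.ι ≫ f))
    (ht : MoreMor.IsFirstOrderThickening t) (a : T₀ ⟶ X) (b : T ⟶ Y) (w : t ≫ b = a ≫ f) :
    ∃! l : T ⟶ X, t ≫ l = a ∧ l ≫ f = b := by
  have : Surjective t := ht.1.2
  have : IsClosedImmersion t := ht.1.1
  have key : ∀ z : T, ∃ (W : T.Opens) (l : (W : Scheme.{u}) ⟶ X), z ∈ W ∧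
      (t ∣_ W) ≫ l = (t ⁻¹ᵁ W).ι ≫ a ∧ l ≫ f = W.ι ≫ b := by
    intro z
    obtain ⟨z₀, rfl⟩ := t.surjective z
    obtain ⟨U, hxU, hU⟩ := H (a z₀)
    have ho : IsOpenMap t :=
      (Equiv.toHomeomorphOfIsInducing (Equiv.ofBijective t
        ⟨t.isClosedEmbedding.injective, t.surjective⟩) t.isClosedEmbedding.isInducing).isOpenMap
    obtain ⟨W₁, hW₁, hzW₁, hW₁U⟩ := Opens.isBasis_iff_nbhd.mp T.isBasis_affineOpens
      (U := ⟨t '' (a ⁻¹ᵁ U : Set T₀), ho _ (a ⁻¹ᵁ U).isOpen⟩)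
      (show t z₀ ∈ t '' _ from ⟨z₀, hxU, rfl⟩)
    obtain ⟨W, rfl⟩ : ∃ W : T.Opens, W = W₁ := ⟨W₁, rfl⟩
    have r : Set.range ((t ⁻¹ᵁ W).ι ≫ a) ⊆ Set.range U.ι := by
      rintro _ ⟨q, rfl⟩
      rw [Scheme.Opens.range_ι, Scheme.Hom.comp_apply]
      obtain ⟨q', hq', e⟩ := hW₁U q.2
      rw [show (t ⁻¹ᵁ W).ι q = q' from (t.isClosedEmbedding.injective e).symm]
      exact hq'
    obtain ⟨l, ⟨e₁, e₂⟩, -⟩ := existsUnique_lift_affineOpen ht hU hW₁
      (IsOpenImmersion.lift U.ι _ r) (W.ι ≫ b) (by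
        rw [morphismRestrict_ι_assoc, w, IsOpenImmersion.lift_fac_assoc, Category.assoc])
    exact ⟨W, l ≫ U.ι, hzW₁, by rw [reassoc_of% e₁, IsOpenImmersion.lift_fac],
      by rw [Category.assoc, e₂]⟩
  choose W l hzW hl₁ hl₂ using key
  let 𝒰 : T.OpenCover := T.openCoverOfIsOpenCover W (eq_top_iff.mpr fun z _ ↦ Opens.mem_iSup.mpr ⟨z, hzW z⟩)
  have compat : ∀ x y, pullback.fst (W x).ι (W y).ι ≫ l x = pullback.snd _ _ ≫ l y := by
    intro x y
    let j := pullback.fst (W x).ι (W y).ι ≫ (W x).ι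
    have hj : j = pullback.snd (W x).ι (W y).ι ≫ (W y).ι := pullback.condition
    refine lift_unique_of_locally H ht j _ _ ?_ ?_
    · let kx := (isPullback_morphismRestrict t (W x)).lift
        (pullback.snd t j ≫ pullback.fst (W x).ι (W y).ι) (pullback.fst t j)
        ((Category.assoc _ _ _).trans pullback.condition.symm)
      let ky := (isPullback_morphismRestrict t (W y)).lift
        (pullback.snd t j ≫ pullback.snd (W x).ι (W y).ι) (pullback.fst t j)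
        ((Category.assoc _ _ _).trans
          ((congrArg (pullback.snd t j ≫ ·) hj.symm).trans pullback.condition.symm))
      have hx₁ : kx ≫ (t ∣_ W x) = pullback.snd t j ≫ pullback.fst (W x).ι (W y).ι :=
        (isPullback_morphismRestrict t (W x)).lift_fst ..
      have hx₂ : kx ≫ (t ⁻¹ᵁ W x).ι = pullback.fst t j :=
        (isPullback_morphismRestrict t (W x)).lift_snd ..
      have hy₁ : ky ≫ (t ∣_ W y) = pullback.snd t j ≫ pullback.snd (W x).ι (W y).ι :=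
        (isPullback_morphismRestrict t (W y)).lift_fst ..
      have hy₂ : ky ≫ (t ⁻¹ᵁ W y).ι = pullback.fst t j :=
        (isPullback_morphismRestrict t (W y)).lift_snd ..
      rw [← reassoc_of% hx₁, ← reassoc_of% hy₁, hl₁, hl₁, reassoc_of% hx₂, reassoc_of% hy₂]
    · rw [Category.assoc, Category.assoc, hl₂, hl₂, pullback.condition_assoc]
  let L : T ⟶ X := 𝒰.glueMorphisms l compat
  have hL : ∀ z, (W z).ι ≫ L = l z := fun z ↦ 𝒰.ι_glueMorphisms l compat z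
  refine ⟨L, ⟨?_, ?_⟩, ?_⟩
  · refine Scheme.hom_ext_of_forall _ _ fun z₀ ↦ ⟨t ⁻¹ᵁ W (t z₀), hzW _, ?_⟩
    rw [← morphismRestrict_ι_assoc, hL, hl₁]
  · exact Scheme.hom_ext_of_forall _ _ fun z ↦ ⟨W z, hzW z, by rw [reassoc_of% (hL z), hl₂]⟩
  · rintro L' ⟨e₁, e₂⟩
    refine Scheme.hom_ext_of_forall _ _ fun z ↦ ⟨W z, hzW z, ?_⟩
    rw [hL]
    refine lift_unique_of_locally H ht (W z).ι _ _ ?_ ?_
    · let k := (isPullback_morphismRestrict t (W z)).lift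
        (pullback.snd t (W z).ι) (pullback.fst t (W z).ι) pullback.condition.symm
      have k₁ : k ≫ (t ∣_ W z) = pullback.snd t (W z).ι :=
        (isPullback_morphismRestrict t (W z)).lift_fst ..
      rw [← k₁, Category.assoc, Category.assoc, hl₁, morphismRestrict_ι_assoc, e₁]
    · rw [Category.assoc, e₂, hl₂]

end

lemma isFirstOrderThickening_SpecMap_mk {A : Type u} [CommRing A] (I : Ideal A) (hI : I ^ 2 = ⊥) :
    MoreMor.IsFirstOrderThickening (Spec.map (CommRingCat.ofHom (Ideal.Quotient.mk I))) := by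
  refine ⟨⟨IsClosedImmersion.spec_of_quotient_mk (R := CommRingCat.of A) I,
    surjective_SpecMap_mk I hI⟩, Scheme.IdealSheafData.ext_of_isAffine ?_⟩
  have := IsClosedImmersion.spec_of_quotient_mk (R := CommRingCat.of A) I
  rw [Scheme.IdealSheafData.ideal_mul, Pi.mul_apply, Scheme.Hom.ker_apply]
  rw [Scheme.IdealSheafData.ideal_bot, Pi.bot_apply, eq_bot_iff, Ideal.mul_le]
  intro r hr s hs
  rw [Ideal.mem_bot]
  have e : ∀ r, (Spec.map (CommRingCat.ofHom (Ideal.Quotient.mk I))).appTop r = 0 →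
      (Scheme.ΓSpecIso (CommRingCat.of A)).hom r ∈ I := fun r hr ↦ by
    refine Ideal.Quotient.eq_zero_iff_mem.mp ?_
    have : (Scheme.ΓSpecIso (CommRingCat.of (A ⧸ I))).hom
        ((Spec.map (CommRingCat.ofHom (Ideal.Quotient.mk I))).appTop r) =
        Ideal.Quotient.mk I ((Scheme.ΓSpecIso (CommRingCat.of A)).hom r) :=
      congr($(Scheme.ΓSpecIso_naturality (CommRingCat.ofHom (Ideal.Quotient.mk I))) r)
    rw [hr, map_zero] at this
    exact this.symm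
  have hr' := e r hr
  have hs' := e s hs
  apply (ConcreteCategory.bijective_of_isIso (Scheme.ΓSpecIso (CommRingCat.of A)).hom).1
  rw [map_mul, map_zero]
  have := Ideal.mul_mem_mul hr' hs'
  rwa [← pow_two, hI, Ideal.mem_bot] at this

/-- A morphism which is formally étale locally on the source is formally étale. -/
lemma isFormallyEtaleHom_of_locally {X Y : Scheme.{u}} {f : X ⟶ Y}
    (H : ∀ x : X, ∃ U : X.Opens, x ∈ U ∧ MoreMor.IsFormallyEtaleHom (U.ι ≫ f)) :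
    MoreMor.IsFormallyEtaleHom f := fun _ _ I hI a b w ↦
  existsUnique_lift_of_locally H (isFirstOrderThickening_SpecMap_mk I hI) a b w

lemma isFormallyEtaleHom_iff_appLE {X Y : Scheme.{u}} (f : X ⟶ Y) :
    MoreMor.IsFormallyEtaleHom f ↔ ∀ (U : X.Opens) (V : Y.Opens), IsAffineOpen U →
      IsAffineOpen V → ∀ (hUV : U ≤ f ⁻¹ᵁ V), (f.appLE V U hUV).hom.FormallyEtale := by
  refine ⟨fun hf U V hU hV hUV ↦ formallyEtale_appLE f hU hV hUV hf,
    fun h ↦ isFormallyEtaleHom_of_locally fun x ↦ ?_⟩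
  obtain ⟨V, hV, hxV, -⟩ := Opens.isBasis_iff_nbhd.mp Y.isBasis_affineOpens
    (show f x ∈ (⊤ : Y.Opens) from trivial)
  obtain ⟨U, hU, hxU, hUV⟩ := Opens.isBasis_iff_nbhd.mp X.isBasis_affineOpens
    (show x ∈ f ⁻¹ᵁ V from hxV)
  exact ⟨U, hxU, isFormallyEtaleHom_ι_comp f hU hV hUV (h U V hU hV hUV)⟩

lemma existsUnique_lift_of_isFormallyEtaleHom {X Y T₀ T : Scheme.{u}} {f : X ⟶ Y}
    (hf : MoreMor.IsFormallyEtaleHom f) {t : T₀ ⟶ T} (ht : MoreMor.IsFirstOrderThickening t)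
    (a : T₀ ⟶ X) (b : T ⟶ Y) (w : t ≫ b = a ≫ f) :
    ∃! l : T ⟶ X, t ≫ l = a ∧ l ≫ f = b :=
  existsUnique_lift_of_locally (fun x ↦ ⟨⊤, trivial,
    isFormallyEtaleHom_comp (isFormallyEtaleHom_of_isOpenImmersion _) hf⟩) ht a b w

lemma etale_iff_formallyEtale_and_fp {R S : Type u} [CommRing R] [CommRing S] (f : R →+* S) :
    f.Etale ↔ f.FormallyEtale ∧ f.FinitePresentation := by
  algebraize [f]
  exact ⟨fun (h : Algebra.Etale R S) ↦ ⟨h.formallyEtale, h.finitePresentation⟩,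
    fun ⟨h₁, h₂⟩ ↦ (⟨h₁, h₂⟩ : Algebra.Etale R S)⟩

lemma etale_iff_lfp_and_isFormallyEtaleHom {X Y : Scheme.{u}} (f : X ⟶ Y) :
    Etale f ↔ LocallyOfFinitePresentation f ∧ MoreMor.IsFormallyEtaleHom f := by
  rw [HasRingHomProperty.iff_appLE (P := @Etale),
    HasRingHomProperty.iff_appLE (P := @LocallyOfFinitePresentation),
    isFormallyEtaleHom_iff_appLE]
  refine ⟨fun h ↦ ⟨fun U V e ↦ ?_, fun U V hU hV e ↦ ?_⟩, fun h U V e ↦ ?_⟩
  · exact ((etale_iff_formallyEtale_and_fp _).mp (h U V e)).2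
  · exact ((etale_iff_formallyEtale_and_fp _).mp (h ⟨V, hV⟩ ⟨U, hU⟩ e)).1
  · exact (etale_iff_formallyEtale_and_fp _).mpr
      ⟨h.2 V.1 U.1 V.2 U.2 e, h.1 U V e⟩

end Groth.Agent.FlatMorLib
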