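import Mathlib.AlgebraicGeometry.Morphisms.Flat
import Mathlib.AlgebraicGeometry.Morphisms.Preimmersion
import Mathlib.AlgebraicGeometry.Morphisms.ClosedImmersion
import Mathlib.AlgebraicGeometry.Fiber
import Mathlib.RingTheory.Localization.AtPrime.Basic
import Groth.Agent.FpqcDescent.Flat

set_option autoImplicit false

universe u

open CategoryTheory Limits AlgebraicGeometry TopologicalSpace

namespace Groth.Agent.FlatMorLib

lemma flat_fromSpecStalk {X : Scheme.{u}} (x : X) : Flat (X.fromSpecStalk x) := by
  obtain ⟨V, hV, hxV, -⟩ := Opens.isBasis_iff_nbhd.mp X.isBasis_affineOpens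
    (show x ∈ (⊤ : X.Opens) from trivial)
  rw [← IsAffineOpen.fromSpecStalk_eq_fromSpecStalk hV hxV, IsAffineOpen.fromSpecStalk]
  have : Flat (Spec.map (X.presheaf.germ V x hxV)) := by
    rw [Flat.SpecMap_iff]
    have := hV.isLocalization_stalk ⟨x, hxV⟩
    algebraize [(X.presheaf.germ V x hxV).hom]
    exact IsLocalization.flat _ (hV.primeIdealOf ⟨x, hxV⟩).asIdeal.primeCompl
  infer_instance

/-- A flat preimmersion induces bijective stalk maps. -/
lemma bijective_stalkMap_of_flat_preimmersion {X Y : Scheme.{u}} (f : X ⟶ Y) [Flat f]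
    [IsPreimmersion f] (x : X) : Function.Bijective (f.stalkMap x).hom :=
  ⟨(FpqcDescent.faithfullyFlat_stalkMap f x (Flat.stalkMap f x)).injective,
    f.stalkMap_surjective x⟩

lemma isReduced_of_flat_preimmersion {X Y : Scheme.{u}} (f : X ⟶ Y) [Flat f] [IsPreimmersion f]
    [IsReduced Y] : IsReduced X := by
  have (x : X) : _root_.IsReduced (X.presheaf.stalk x) :=
    isReduced_of_injective (RingEquiv.ofBijective _
      (bijective_stalkMap_of_flat_preimmersion f x)).symm
      (RingEquiv.ofBijective _ (bijective_stalkMap_of_flat_preimmersion f x)).symm.injective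
  exact isReduced_of_isReduced_stalk X

/-- The fibre of a morphism from a reduced scheme over a maximal point is reduced. -/
lemma isReduced_fiber_of_maximal {X Y : Scheme.{u}} [IsReduced X] (f : X ⟶ Y) (η : Y)
    (hη : ∀ y : Y, y ⤳ η → y = η) : IsReduced (f.fiber η) := by
  let g := Y.fromSpecStalk η
  have := flat_fromSpecStalk η
  have : IsPreimmersion (pullback.fst f g) := MorphismProperty.pullback_fst _ _ inferInstance
  have := isReduced_of_flat_preimmersion (pullback.fst f g)
  let c : Spec (Y.residueField η) ⟶ Spec (Y.presheaf.stalk η) := Spec.map (Y.residue η)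
  have hc : c ≫ g = Y.fromSpecResidueField η := rfl
  have hsurj : Surjective c := ⟨fun p ↦ by
    refine ⟨IsLocalRing.closedPoint _, g.isEmbedding.injective ?_⟩
    have hp : g p ⤳ η := by
      have h : g p ∈ Set.range g := ⟨p, rfl⟩
      rwa [Scheme.range_fromSpecStalk] at h
    rw [← Scheme.Hom.comp_apply, hc, Scheme.fromSpecResidueField_apply, hη _ hp]⟩
  let k : f.fiber η ⟶ pullback f g :=
    pullback.lift (f.fiberι η) (f.fiberToSpecResidueField η ≫ c)
      (by rw [Category.assoc, hc]; exact f.fiber_fac η)
  have hk : IsPullback k (f.fiberToSpecResidueField η) (pullback.snd f g) c := by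
    refine IsPullback.of_right (h₁₂ := pullback.fst f g) ?_ (pullback.lift_snd ..)
      (IsPullback.of_hasPullback f g)
    rw [pullback.lift_fst, hc]
    exact IsPullback.of_hasPullback f _
  have : IsClosedImmersion k := MorphismProperty.of_isPullback hk.flip inferInstance
  have : Surjective k := MorphismProperty.of_isPullback hk.flip hsurj
  have := isIso_of_isClosedImmersion_of_surjective k
  exact isReduced_of_isOpenImmersion k

end Groth.Agent.FlatMorLib
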