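import Mathlib.AlgebraicGeometry.Geometrically.Reduced
import Mathlib.AlgebraicGeometry.Geometrically.Connected
import Mathlib.AlgebraicGeometry.Geometrically.Irreducible
import Mathlib.AlgebraicGeometry.Morphisms.Flat
import Groth.Agent.FpqcDescent.Flat

set_option autoImplicit false

universe u

open CategoryTheory Limits AlgebraicGeometry

namespace Groth.Agent.FlatMorLib

variable {X Y X' Y' : Scheme.{u}} {f : X ⟶ Y} {g : Y' ⟶ Y} {f' : X' ⟶ Y'} {g' : X' ⟶ X}

/-- Being geometrically `P` descends along surjective base change, if `P` descends along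
flat surjective morphisms. -/
lemma geometrically_of_isPullback_of_surjective {P : ObjectProperty Scheme.{u}}
    (hP : ∀ {A B : Scheme.{u}} (p : A ⟶ B) [Flat p] [Surjective p], P A → P B)
    (hc : IsPullback g' f' f g) [Surjective g] (hf' : geometrically P f') : geometrically P f := by
  intro K _ y Z fst snd h
  obtain ⟨z⟩ : Nonempty ↥(pullback y g) := by
    obtain ⟨z, -⟩ := (pullback.fst y g).surjective (IsLocalRing.closedPoint K)
    exact ⟨z⟩
  let L := (pullback y g).residueField z
  let a : Spec L ⟶ Y' := (pullback y g).fromSpecResidueField z ≫ pullback.snd y g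
  let b : Spec L ⟶ Spec (.of K) := (pullback y g).fromSpecResidueField z ≫ pullback.fst y g
  have hab : b ≫ y = a ≫ g := by simp [a, b, pullback.condition]
  have hb1 : Subsingleton ↥(Spec (CommRingCat.of K)) :=
    inferInstanceAs (Subsingleton (PrimeSpectrum K))
  have : IsIntegral (Spec (CommRingCat.of K)) := inferInstance
  have hb : Flat b := inferInstance
  have : Surjective b := ⟨fun k ↦ ⟨IsLocalRing.closedPoint L, Subsingleton.elim _ _⟩⟩
  have hW : IsPullback (pullback.fst snd b ≫ fst) (pullback.snd snd b) f (a ≫ g) := by
    rw [← hab]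
    exact (IsPullback.of_hasPullback snd b).paste_horiz h
  let l : pullback snd b ⟶ X' :=
    hc.lift (pullback.fst snd b ≫ fst) (pullback.snd snd b ≫ a) (by simp [hW.w])
  have hW' : IsPullback l (pullback.snd snd b) f' a :=
    IsPullback.of_right (by simpa [l] using hW) (by simp [l]) hc
  exact hP (pullback.fst snd b) (hf' _ _ _ hW')

lemma geometrically_iff_of_isPullback {P : ObjectProperty Scheme.{u}}
    (hP : ∀ {A B : Scheme.{u}} (p : A ⟶ B) [Flat p] [Surjective p], P A → P B)
    (hc : IsPullback g' f' f g) (y' : Y') :
    geometrically P (f'.fiberToSpecResidueField y') ↔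
      geometrically P (f.fiberToSpecResidueField (g y')) := by
  have h := isPullback_fiberToSpecResidueField_of_isPullback hc y'
  have : Surjective (Spec.map (g.residueFieldMap y')) :=
    ⟨fun _ ↦ ⟨IsLocalRing.closedPoint _, Subsingleton.elim (α := PrimeSpectrum _) _ _⟩⟩
  exact ⟨geometrically_of_isPullback_of_surjective hP h,
    fun hf ↦ MorphismProperty.of_isPullback h hf⟩

lemma geometricallyReduced_fiber_iff (hc : IsPullback g' f' f g) (y' : Y') :
    GeometricallyReduced (f'.fiberToSpecResidueField y') ↔
      GeometricallyReduced (f.fiberToSpecResidueField (g y')) := by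
  rw [GeometricallyReduced.eq_geometrically]
  exact geometrically_iff_of_isPullback
    (fun p _ _ h ↦ @FpqcDescent.isReduced_of_flat_surjective _ _ p _ _ h) hc y'

lemma geometricallyConnected_fiber_iff (hc : IsPullback g' f' f g) (y' : Y') :
    GeometricallyConnected (f'.fiberToSpecResidueField y') ↔
      GeometricallyConnected (f.fiberToSpecResidueField (g y')) := by
  rw [GeometricallyConnected.eq_geometrically]
  refine geometrically_iff_of_isPullback (fun p _ _ h ↦ ?_) hc y'
  have : ConnectedSpace _ := h
  exact p.surjective.connectedSpace p.continuous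

lemma geometricallyIrreducible_fiber_iff (hc : IsPullback g' f' f g) (y' : Y') :
    GeometricallyIrreducible (f'.fiberToSpecResidueField y') ↔
      GeometricallyIrreducible (f.fiberToSpecResidueField (g y')) := by
  rw [GeometricallyIrreducible.eq_geometrically]
  refine geometrically_iff_of_isPullback (fun p _ _ h ↦ ?_) hc y'
  exact @Function.Surjective.irreducibleSpace _ _ _ _ _ p.continuous p.surjective h

end Groth.Agent.FlatMorLib
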