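import Groth.Agent.FlatMorLib.ClosedGen

/-!
# Closed points of a fibre between a specialization, affine case
-/

set_option autoImplicit false

universe u

namespace Groth.Agent.FlatMorLib.ClosedGen

/-- If `P ≤ M` are primes of a finite type `A`-algebra with distinct contractions and `M` is
maximal in its fibre, then away from any `g ∉ P` there is a prime between `P` and `M` in the fibre
of `P` which is maximal in that fibre. -/
theorem exists_closed_generization {A R : Type u} [CommRing A] [CommRing R] [Algebra A R]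
    [Algebra.FiniteType A R] (P M : Ideal R) [P.IsPrime] [M.IsPrime] (hPM : P ≤ M)
    (hne : P.comap (algebraMap A R) ≠ M.comap (algebraMap A R))
    (hM : ∀ M' : Ideal R, M'.IsPrime → M ≤ M' →
      M'.comap (algebraMap A R) = M.comap (algebraMap A R) → M' = M)
    {g : R} (hg : g ∉ P) :
    ∃ Q : Ideal R, Q.IsPrime ∧ P ≤ Q ∧ Q ≤ M ∧
      Q.comap (algebraMap A R) = P.comap (algebraMap A R) ∧ g ∉ Q ∧
      ∀ Q' : Ideal R, Q'.IsPrime → Q ≤ Q' →
        Q'.comap (algebraMap A R) = P.comap (algebraMap A R) → Q' = Q := by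
  classical
  let L := FractionRing (R ⧸ P)
  let φ : R →+* L := (algebraMap (R ⧸ P) L).comp (Ideal.Quotient.mk P)
  have hφ : ∀ r, φ r = 0 ↔ r ∈ P := fun r ↦ by
    simp [φ, IsFractionRing.to_map_eq_zero_iff, Ideal.Quotient.eq_zero_iff_mem]
  let ψ : A →+* L := φ.comp (algebraMap A R)
  let K : Subfield L := Subfield.closure (Set.range ψ)
  have hψK : ∀ a, ψ a ∈ K := fun a ↦ Subfield.subset_closure ⟨a, rfl⟩
  have hKdiv : ∀ x ∈ K, ∃ a b, ψ b ≠ 0 ∧ x = ψ a / ψ b := by
    intro x hx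
    obtain ⟨y, hy, z, hz, rfl⟩ := Subfield.mem_closure_iff.mp hx
    rw [← RingHom.coe_range, Subring.closure_eq] at hy hz
    obtain ⟨a, rfl⟩ := hy
    obtain ⟨b, rfl⟩ := hz
    by_cases hb : ψ b = 0
    · exact ⟨0, 1, by simp, by simp [hb]⟩
    · exact ⟨a, b, hb, rfl⟩
  let f : Localization.AtPrime M →+* L := IsLocalization.lift (M := M.primeCompl) (g := φ)
    fun y ↦ isUnit_iff_ne_zero.mpr fun h ↦ y.2 (hPM ((hφ _).mp h))
  obtain ⟨W, hfW, hfloc⟩ := IsLocalRing.exists_factor_valuationRing f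
  have hφW : ∀ r, φ r ∈ W := fun r ↦ by simpa [f] using hfW (algebraMap R _ r)
  have hunit : ∀ r, IsUnit (⟨φ r, hφW r⟩ : W) ↔ r ∉ M := by
    intro r
    have e : (⟨φ r, hφW r⟩ : W) = f.codRestrict W.toSubring hfW (algebraMap R _ r) :=
      Subtype.ext (show φ r = f (algebraMap R _ r) by simp [f])
    rw [e, ← Ideal.mem_primeCompl_iff, ← IsLocalization.AtPrime.isUnit_to_map_iff (Localization.AtPrime M) M r]
    exact ⟨fun h ↦ hfloc.map_nonunit _ h, fun h ↦ h.map _⟩
  let V : ValuationSubring K := W.comap K.subtype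
  let i : V →+* W := (K.subtype.comp V.subtype).codRestrict W.toSubring fun v ↦ v.2
  have hiloc : ∀ v : V, IsUnit (i v) → IsUnit v := by
    intro v hv
    obtain ⟨w, hw⟩ := hv.exists_right_inv
    have hw' : ((v : K) : L) * (w : L) = 1 := congr(Subtype.val $hw)
    have hwK : (w : L) ∈ K := by
      rw [← inv_eq_of_mul_eq_one_right hw']
      exact K.inv_mem (v : K).2
    exact IsUnit.of_mul_eq_one (⟨⟨w, hwK⟩, w.2⟩ : V) (Subtype.ext (Subtype.ext hw'))
  let _ : Algebra V L := (K.subtype.comp V.subtype).toAlgebra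
  have hVmem : ∀ v : V, algebraMap V L v ∈ W := fun v ↦ v.2
  obtain ⟨s, hs⟩ := Algebra.FiniteType.out (R := A) (A := R)
  let B : Subalgebra V L := Algebra.adjoin V (φ '' s)
  have hBW : ∀ x ∈ B, x ∈ W := by
    intro x hx
    induction hx using Algebra.adjoin_induction with
    | mem x hx => obtain ⟨r, -, rfl⟩ := hx; exact hφW r
    | algebraMap v => exact hVmem v
    | add x y _ _ hx hy => exact W.add_mem _ _ hx hy
    | mul x y _ _ hx hy => exact W.mul_mem _ _ hx hy
  have hψV : ∀ a, ∃ v : V, algebraMap V L v = ψ a := fun a ↦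
    ⟨⟨⟨ψ a, hψK a⟩, hφW (algebraMap A R a)⟩, rfl⟩
  choose va hva using hψV
  have hφB : ∀ r, φ r ∈ B := by
    intro r
    have hr : r ∈ Algebra.adjoin A (s : Set R) := hs ▸ Algebra.mem_top
    induction hr using Algebra.adjoin_induction with
    | mem x hx => exact Algebra.subset_adjoin ⟨x, hx, rfl⟩
    | algebraMap a =>
      rw [show φ (algebraMap A R a) = ψ a from rfl, ← hva]
      exact B.algebraMap_mem _
    | add x y _ _ hx hy => rw [map_add]; exact add_mem hx hy
    | mul x y _ _ hx hy => rw [map_mul]; exact mul_mem hx hy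
  let φB : R →+* B := φ.codRestrict B hφB
  have hφBa : ∀ a, φB (algebraMap A R a) = algebraMap V B (va a) := fun a ↦
    Subtype.ext (hva a).symm
  have : Algebra.FiniteType V B :=
    (Subalgebra.fg_iff_finiteType B).mp
      (Subalgebra.fg_def.mpr ⟨φ '' s, s.finite_toSet.image φ, rfl⟩)
  have hinjV : Function.Injective (algebraMap V B) := fun x y h ↦
    Subtype.ext (Subtype.ext congr(Subtype.val $h))
  have : FaithfulSMul V B := (faithfulSMul_iff_algebraMap_injective V B).mpr hinjV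
  let j : B →+* W := (B.val.toRingHom).codRestrict W.toSubring fun x ↦ hBW x x.2
  obtain ⟨m, hm, hmle⟩ := Ideal.exists_le_maximal ((IsLocalRing.maximalIdeal W).comap j)
    (Ideal.IsPrime.ne_top (Ideal.comap_isPrime _ _))
  have hji : ∀ v, j (algebraMap V B v) = i v := fun v ↦ Subtype.ext rfl
  have hmV : m.comap (algebraMap V B) = IsLocalRing.maximalIdeal V := by
    refine ((IsLocalRing.maximalIdeal.isMaximal V).eq_of_le
      (Ideal.IsPrime.ne_top (Ideal.comap_isPrime _ _)) fun v hv ↦ hmle ?_).symm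
    rw [Ideal.mem_comap, hji, IsLocalRing.mem_maximalIdeal, mem_nonunits_iff]
    exact fun h ↦ (IsLocalRing.mem_maximalIdeal v).mp hv (hiloc v h)
  have hmV' : ∀ a, va a ∈ IsLocalRing.maximalIdeal V ↔ algebraMap A R a ∈ M := by
    intro a
    rw [IsLocalRing.mem_maximalIdeal, mem_nonunits_iff, ← not_iff_not, not_not,
      ← hunit (algebraMap A R a)]
    have e : i (va a) = ⟨φ (algebraMap A R a), hφW _⟩ := Subtype.ext (hva a)
    exact ⟨fun h ↦ e ▸ h.map i, fun h ↦ hiloc _ (e ▸ h)⟩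
  have hM1 : m.comap φB = M := by
    have hle : M ≤ m.comap φB := fun r hr ↦ hmle (by
      rw [Ideal.mem_comap, IsLocalRing.mem_maximalIdeal, mem_nonunits_iff]
      exact fun h ↦ (hunit r).mp h hr)
    refine hM _ (Ideal.comap_isPrime _ _) hle (le_antisymm (fun a ha ↦ ?_) (Ideal.comap_mono hle))
    rw [Ideal.mem_comap, Ideal.mem_comap, hφBa, ← Ideal.mem_comap, hmV] at ha
    exact (hmV' a).mp ha
  have hψ0 : ∀ a, ψ a = 0 ↔ algebraMap A R a ∈ P := fun a ↦ hφ _
  obtain ⟨a₀, ha₀, ha₀'⟩ := SetLike.exists_of_lt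
    (lt_of_le_of_ne (Ideal.comap_mono (f := algebraMap A R) hPM) hne)
  have hV : IsLocalRing.maximalIdeal V ≠ ⊥ := fun h ↦ ha₀' <| by
    have := (hmV' a₀).mpr ha₀
    rw [h, Ideal.mem_bot] at this
    rw [Ideal.mem_comap, ← hψ0, ← hva, this, map_zero]
  have hgB : φB g ≠ 0 := fun h ↦ hg ((hφ g).mp congr(Subtype.val $h))
  obtain ⟨q, hq, hqm, hqV, hgq, halg⟩ := exists_closed_generic_point m hmV hV hgB
  have hQP : ∀ a, algebraMap A R a ∈ q.comap φB → algebraMap A R a ∈ P := by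
    intro a ha
    rw [Ideal.mem_comap, hφBa, ← Ideal.mem_comap, hqV, Ideal.mem_bot] at ha
    rw [← hψ0, ← hva, ha, map_zero]
  have hPQ : P ≤ q.comap φB := fun r hr ↦ by
    rw [Ideal.mem_comap, show φB r = 0 from Subtype.ext ((hφ r).mpr hr)]
    exact zero_mem _
  refine ⟨q.comap φB, Ideal.comap_isPrime _ _, hPQ, hM1 ▸ Ideal.comap_mono hqm,
    le_antisymm (fun a ha ↦ hQP a ha) (Ideal.comap_mono hPQ), hgq, fun Q' hQ' hle hQ'P ↦ ?_⟩
  refine le_antisymm (fun y hy ↦ ?_) hle
  by_contra hyQ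
  obtain ⟨v, hv, z, hz⟩ := halg (φB y) hyQ
  obtain ⟨a1, a2, ha2, hv12⟩ := hKdiv _ (v : K).2
  have ha1 : ψ a1 ≠ 0 := fun h ↦ hv (Subtype.ext (Subtype.ext (by rw [hv12, h, zero_div]; rfl)))
  have hclear : ∀ x ∈ B, ∃ b r, ψ b ≠ 0 ∧ ψ b * x = φ r := by
    intro x hx
    induction hx using Algebra.adjoin_induction with
    | mem x hx => obtain ⟨r, -, rfl⟩ := hx; exact ⟨1, r, by simp, by simp⟩
    | algebraMap w =>
      obtain ⟨b1, b2, hb2, hw⟩ := hKdiv _ (w : K).2
      refine ⟨b2, algebraMap A R b1, hb2, ?_⟩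
      show ψ b2 * ((w : K) : L) = ψ b1
      rw [hw, mul_div_cancel₀ _ hb2]
    | add x x' _ _ hx hx' =>
      obtain ⟨b, r, hb, e⟩ := hx
      obtain ⟨b', r', hb', e'⟩ := hx'
      refine ⟨b * b', algebraMap A R b' * r + algebraMap A R b * r', by simp [hb, hb'], ?_⟩
      rw [map_mul, map_add, map_mul, map_mul, ← e, ← e']
      change _ = ψ b' * _ + ψ b * _
      ring
    | mul x x' _ _ hx hx' =>
      obtain ⟨b, r, hb, e⟩ := hx
      obtain ⟨b', r', hb', e'⟩ := hx'
      refine ⟨b * b', r * r', by simp [hb, hb'], ?_⟩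
      rw [map_mul, map_mul, ← e, ← e']
      ring
  obtain ⟨b, z', hb, hz'⟩ := hclear z z.2
  have he : algebraMap A R (a1 * b) - y * z' * algebraMap A R a2 ∈ q.comap φB := by
    rw [Ideal.mem_comap]
    convert q.mul_mem_left (φB (algebraMap A R (a2 * b))) hz
    refine Subtype.ext ?_
    show φ (algebraMap A R (a1 * b) - y * z' * algebraMap A R a2) =
      ψ (a2 * b) * (((v : K) : L) - φ y * (z : L))
    rw [map_sub, map_mul φ, map_mul φ, ← hz', hv12, map_mul ψ]
    show ψ (a1 * b) - φ y * (ψ b * z) * ψ a2 = _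
    rw [map_mul ψ]
    rw [mul_sub, show ψ a2 * ψ b * (ψ a1 / ψ a2) = ψ a1 * ψ b by
      rw [mul_comm (ψ a2), mul_assoc, mul_div_cancel₀ _ ha2, mul_comm]]
    ring
  have h1 : algebraMap A R (a1 * b) ∈ Q' := by
    have := Q'.add_mem (hle he) (Q'.mul_mem_right (z' * algebraMap A R a2) hy)
    rwa [mul_assoc y, sub_add_cancel] at this
  have h2 : ψ (a1 * b) = 0 := (hψ0 _).mpr (show a1 * b ∈ P.comap (algebraMap A R) from
    hQ'P ▸ h1)
  rw [map_mul, mul_eq_zero] at h2
  exact h2.elim ha1 hb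

end Groth.Agent.FlatMorLib.ClosedGen
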