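import Groth.Agent.FlatLocus.Scheme
import Groth.Agent.SmoothPt.Basic
import Groth.Agent.UnramFibre.Basic
import Mathlib.AlgebraicGeometry.Morphisms.FlatMono
import Mathlib.AlgebraicGeometry.Morphisms.Etale
import Mathlib.AlgebraicGeometry.Morphisms.IsIso

/-!
# Fibrewise criteria for morphisms from a flat source
-/

set_option autoImplicit false
set_option linter.style.haveILetI false

noncomputable section

universe u

open CategoryTheory CategoryTheory.Limits AlgebraicGeometry

namespace Groth.Agent.FlatMorLib

variable {X Y S : Scheme.{u}}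

/-- Properties stable under base change pass from the maps over the points of the base to the fibres. -/
theorem fibre_of_snd (P : MorphismProperty Scheme.{u}) [P.IsStableUnderBaseChange] (g : Y ⟶ S) (f : X ⟶ Y)
    (y : Y) (h : P (pullback.snd f (g.fiberι (g y)))) : P (f.fiberToSpecResidueField y) := by
  let ρ : Spec (Y.residueField y) ⟶ g.fiber (g y) :=
    pullback.lift (Y.fromSpecResidueField y) (Spec.map (g.residueFieldMap y))
      (Scheme.Hom.SpecMap_residueFieldMap_fromSpecResidueField g y).symm
  have hρ : ρ ≫ g.fiberι (g y) = Y.fromSpecResidueField y := pullback.lift_fst _ _ _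
  let v : pullback f (Y.fromSpecResidueField y) ⟶ pullback f (g.fiberι (g y)) :=
    pullback.lift (pullback.fst _ _) (pullback.snd _ _ ≫ ρ) (by rw [Category.assoc, hρ, pullback.condition])
  have hsq : IsPullback v (pullback.snd f (Y.fromSpecResidueField y)) (pullback.snd f (g.fiberι (g y))) ρ := by
    refine IsPullback.of_right ?_ (pullback.lift_snd _ _ _) (IsPullback.of_hasPullback f (g.fiberι (g y)))
    rw [pullback.lift_fst, hρ]
    exact IsPullback.of_hasPullback f _
  exact MorphismProperty.of_isPullback hsq h

/-- A smooth map over the points of the base gives a smooth map of fibres. -/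
theorem flat_fiberMap_of_snd (g : Y ⟶ S) (f : X ⟶ Y) (s : S) (h : Flat (pullback.snd f (g.fiberι s))) :
    Flat (MoreMor.fiberMap f g s) := by
  have hsq := FlatLocus.isPullback_fiberMap f g s
  rw [← hsq.isoPullback_hom_snd]
  haveI := h
  infer_instance

variable (g : Y ⟶ S) (h : X ⟶ S) [LocallyOfFinitePresentation g] [LocallyOfFinitePresentation h] [Flat h]
  (f : X ⟶ Y) (w : f ≫ g = h)

include w in
lemma lfp_of_comp : LocallyOfFinitePresentation f := by
  subst w
  exact FlatLocus.locallyOfFinitePresentation_of_comp f g

include w in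
theorem flat_and_flat_of_fibres (hf : ∀ s : S, Flat (pullback.snd f (g.fiberι s))) (x : X) :
    (g.stalkMap (f x)).hom.Flat ∧ (f.stalkMap x).hom.Flat := by
  subst w
  haveI := flat_fiberMap_of_snd g f (g (f x)) (hf _)
  exact FlatLocus.flat_of_flat_fiberMap f g x (Flat.stalkMap (f ≫ g) x) (Flat.stalkMap _ _)

include w in
theorem smooth_of_fibres (hf : ∀ s : S, Smooth (pullback.snd f (g.fiberι s))) : Smooth f := by
  haveI := lfp_of_comp g h f w
  rw [← Scheme.Hom.smoothLocus_eq_top_iff, eq_top_iff]
  intro x _
  haveI : Smooth (f.fiberToSpecResidueField (f x)) := fibre_of_snd @Smooth g f (f x) (hf _)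
  refine SmoothPt.mem_smoothLocus_of_flat_of_fiber f
    (flat_and_flat_of_fibres g h f w (fun s => by haveI := hf s; infer_instance) x).2 ?_
  rw [Scheme.Hom.smoothLocus_eq_top]
  trivial

include w in
theorem etale_of_fibres (hf : ∀ s : S, Etale (pullback.snd f (g.fiberι s))) : Etale f := by
  haveI := lfp_of_comp g h f w
  haveI : Smooth f := smooth_of_fibres g h f w fun s => by haveI := hf s; infer_instance
  haveI : FormallyUnramified f := UnramFibre.formallyUnramified_of_fibres f fun y => by
    haveI : Etale (f.fiberToSpecResidueField y) := fibre_of_snd @Etale g f y (hf _)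
    infer_instance
  exact Etale.of_formallyUnramified_of_flat f

include w in
theorem isOpenImmersion_of_fibres (hf : ∀ s : S, IsOpenImmersion (pullback.snd f (g.fiberι s))) :
    IsOpenImmersion f := by
  haveI := lfp_of_comp g h f w
  haveI : Etale f := etale_of_fibres g h f w fun s => by haveI := hf s; infer_instance
  haveI : Mono f := (UnramFibre.mono_iff_fibres f).2 fun y => by
    haveI : IsOpenImmersion (f.fiberToSpecResidueField y) := fibre_of_snd @IsOpenImmersion g f y (hf _)
    infer_instance
  exact IsOpenImmersion.of_flat_of_mono f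

include w in
theorem isIso_of_fibres (hf : ∀ s : S, IsIso (pullback.snd f (g.fiberι s))) : IsIso f := by
  haveI : IsOpenImmersion f := isOpenImmersion_of_fibres g h f w fun s => by haveI := hf s; infer_instance
  rw [isIso_iff_isOpenImmersion_and_surjective]
  refine ⟨inferInstance, ⟨fun y => ?_⟩⟩
  haveI := hf (g y)
  refine ⟨pullback.fst f (g.fiberι (g y)) (inv (pullback.snd f (g.fiberι (g y))) (g.asFiber y)), ?_⟩
  rw [← Scheme.Hom.comp_apply, pullback.condition, ← Scheme.Hom.comp_apply,
    IsIso.inv_hom_id_assoc]
  exact g.fiberι_asFiber y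

end Groth.Agent.FlatMorLib
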