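/-
Flat, formally unramified, essentially of finite type algebras are formally étale.
-/
import Mathlib

universe u

open TensorProduct

namespace Groth.Agent.FlatMorLib.FlatUnramifiedFE

section
variable {R S : Type u} [CommRing R] [CommRing S] [Algebra R S]
  (T : Type u) [CommRing T] [Algebra R T] [Module.Flat R T]

attribute [local instance] Algebra.TensorProduct.rightAlgebra in
/-- The flat base change isomorphism for `H1Cotangent` is equivariant. -/
lemma tensorH1Cotangent_equivariant (x : Algebra.H1Cotangent R S) (z : T ⊗[R] S) :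
    z • Algebra.tensorH1CotangentOfFlat R S T (1 ⊗ₜ x) =
      Algebra.tensorH1CotangentOfFlat R S T
        (LinearMap.lTensor T ((LinearMap.toSpanSingleton S (Algebra.H1Cotangent R S) x).restrictScalars R) z) := by
  induction z using TensorProduct.induction_on with
  | zero => simp only [zero_smul, map_zero]
  | add a b ha hb => simp only [add_smul, map_add, ha, hb]
  | tmul a b =>
    rw [LinearMap.lTensor_tmul, LinearMap.restrictScalars_apply, LinearMap.toSpanSingleton_apply,
      Algebra.tensorH1CotangentOfFlat_tmul, Algebra.tensorH1CotangentOfFlat_tmul, one_smul,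
      map_smul, ← algebraMap_smul (T ⊗[R] S) b, ← algebraMap_smul (T ⊗[R] S) a, smul_smul]
    congr 1
    change a ⊗ₜ[R] b = (a ⊗ₜ[R] (1 : S)) * ((1 : T) ⊗ₜ[R] b)
    rw [Algebra.TensorProduct.tmul_mul_tmul, mul_one, one_mul]

end

/-- A flat, formally unramified algebra, essentially of finite type, is formally étale. -/
theorem formallyEtale_of_flat (R S : Type u) [CommRing R] [CommRing S] [Algebra R S]
    [Module.Flat R S] [Algebra.FormallyUnramified R S] [Algebra.EssFiniteType R S] :
    Algebra.FormallyEtale R S := by
  obtain ⟨t, ht₁, ht₂⟩ :=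
    (Algebra.FormallyUnramified.iff_exists_tensorProduct (R := R) (S := S)).mp inferInstance
  have hkey : ∀ z : S ⊗[R] S, z * t = (Algebra.TensorProduct.lmul' R z ⊗ₜ[R] 1) * t := by
    intro z
    induction z using TensorProduct.induction_on with
    | zero => simp
    | add a b ha hb => rw [add_mul, map_add, TensorProduct.add_tmul, add_mul, ha, hb]
    | tmul a b =>
      rw [Algebra.TensorProduct.lmul'_apply_tmul,
        show a ⊗ₜ[R] b = (a ⊗ₜ[R] (1 : S)) * ((1 : S) ⊗ₜ[R] b) by
          rw [Algebra.TensorProduct.tmul_mul_tmul, mul_one, one_mul],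
        show (a * b) ⊗ₜ[R] (1 : S) = (a ⊗ₜ[R] (1 : S)) * (b ⊗ₜ[R] (1 : S)) by
          rw [Algebra.TensorProduct.tmul_mul_tmul, mul_one]]
      have := ht₁ b
      rw [sub_mul, sub_eq_zero] at this
      rw [mul_assoc, mul_assoc, this]
  have hidem : t * t = t := by
    rw [hkey t, ht₂]
    exact one_mul t
  have hpow : ∀ n, t ^ (n + 1) = t := fun n => by
    induction n with
    | zero => simp
    | succ n ih => rw [pow_succ, ih, hidem]
  -- the localization at `t` is the diagonal
  let Q := Localization.Away t
  have hQ : Function.Bijective (Algebra.ofId S Q) := by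
    let μ : S ⊗[R] S →ₐ[S] S :=
      { (Algebra.TensorProduct.lmul' R : S ⊗[R] S →ₐ[R] S).toRingHom with
        commutes' := fun a => by
          show Algebra.TensorProduct.lmul' R (a ⊗ₜ[R] (1 : S)) = a
          rw [Algebra.TensorProduct.lmul'_apply_tmul, mul_one] }
    have hμ : IsUnit (μ t) := by
      have : μ t = 1 := ht₂
      rw [this]
      exact isUnit_one
    let r : Q →+* S := IsLocalization.Away.lift (S := Q) t (g := μ.toRingHom) hμ
    have hr : ∀ z, r (algebraMap (S ⊗[R] S) Q z) = μ z := fun z =>
      IsLocalization.Away.lift_eq (S := Q) t hμ z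
    have hunit : IsUnit (algebraMap (S ⊗[R] S) Q t) := IsLocalization.Away.algebraMap_isUnit t
    have h1 : ∀ z : S ⊗[R] S, algebraMap (S ⊗[R] S) Q z = algebraMap S Q (μ z) := by
      intro z
      refine hunit.mul_right_cancel ?_
      rw [IsScalarTower.algebraMap_apply S (S ⊗[R] S) Q, ← map_mul, ← map_mul, hkey]
      rfl
    refine ⟨fun a b hab => ?_, fun q => ?_⟩
    · have := congrArg r hab
      simp only [Algebra.ofId_apply, IsScalarTower.algebraMap_apply S (S ⊗[R] S) Q, hr] at this
      rwa [μ.commutes, μ.commutes] at this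
    · obtain ⟨n, z, hz⟩ := IsLocalization.Away.surj t q
      refine ⟨μ z, ?_⟩
      rw [Algebra.ofId_apply, ← h1, ← hz]
      have ht1 : algebraMap (S ⊗[R] S) Q t = 1 := by
        rw [h1, show μ t = 1 from ht₂, map_one]
      rw [ht1, one_pow, mul_one]
  have : Algebra.FormallyEtale S Q :=
    Algebra.FormallyEtale.of_equiv (AlgEquiv.ofBijective (Algebra.ofId S Q) hQ)
  -- hence `H1Cotangent` vanishes
  have hH : Subsingleton (Algebra.H1Cotangent R S) := by
    refine subsingleton_of_forall_eq 0 fun x => ?_
    set h := Algebra.tensorH1CotangentOfFlat R S S (1 ⊗ₜ x) with hh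
    have h0 : t • h = 0 := by
      obtain ⟨⟨_, n, rfl⟩, hn⟩ := (IsLocalizedModule.eq_zero_iff (Submonoid.powers t)
        (Algebra.H1Cotangent.map S S (S ⊗[R] S) Q) (m := h)).mp (Subsingleton.elim _ _)
      have hn' : t ^ n • h = 0 := hn
      calc t • h = t ^ (n + 1) • h := by rw [hpow n]
        _ = t • (t ^ n • h) := by rw [pow_succ', mul_smul]
        _ = 0 := by rw [hn', smul_zero]
    rw [hh, tensorH1Cotangent_equivariant] at h0
    have h2 : LinearMap.lTensor S ((LinearMap.toSpanSingleton S (Algebra.H1Cotangent R S) x).restrictScalars R) t = 0 :=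
      (LinearEquiv.map_eq_zero_iff _).mp h0
    have h3 : ∀ z : S ⊗[R] S, TensorProduct.lift ((LinearMap.lsmul S (Algebra.H1Cotangent R S)).restrictScalars₁₂ R R)
        (LinearMap.lTensor S ((LinearMap.toSpanSingleton S (Algebra.H1Cotangent R S) x).restrictScalars R) z) =
        Algebra.TensorProduct.lmul' R z • x := by
      intro z
      induction z using TensorProduct.induction_on with
      | zero => simp
      | add a b ha hb => rw [map_add, map_add, ha, hb, map_add, add_smul]
      | tmul a b => simp [mul_smul, smul_comm b a x]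
    have := h3 t
    rw [h2, map_zero, ht₂, one_smul] at this
    exact this.symm
  exact Algebra.formallyEtale_iff R S |>.mpr ⟨inferInstance, hH⟩

end Groth.Agent.FlatMorLib.FlatUnramifiedFE
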